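import Groth.Agent.EtBcBridgeLib.Exact
import Groth.Agent.EtBcKilledLib.Comp
import Groth.Agent.SpSeqLib.Acyclic
import Groth.Agent.EtBcDLib.Deg

/-!
# The base change morphism computed on injective resolutions
-/

set_option autoImplicit false
set_option linter.all false
set_option backward.isDefEq.respectTransparency false
set_option backward.isDefEq.respectTransparency.types false
set_option synthInstance.maxHeartbeats 400000
set_option maxHeartbeats 2000000

universe u

open CategoryTheory CategoryTheory.Limits AlgebraicGeometry Opposite HomologicalComplex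

noncomputable section

namespace EtBcBridgeLib

attribute [local instance] EtSliceLib.pullExact

theorem pfl_push {A B : Scheme.{u}} (f : A ⟶ B) : PreservesFiniteLimits (EtCoh.push f) :=
  haveI : PreservesLimitsOfSize.{0, 0} (EtCoh.push f) := (EtCoh.pullPushAdj f).rightAdjoint_preservesLimits
  PreservesLimitsOfSize.preservesFiniteLimits _

attribute [local instance] pfl_push

theorem pfc_pull {A B : Scheme.{u}} (f : A ⟶ B) : PreservesFiniteColimits (EtCoh.pull f) :=
  EtCore.pull_preservesFiniteColimits f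

attribute [local instance] pfc_pull

variable {X S X' S' : Scheme.{u}} (f : X ⟶ S) (g : S' ⟶ S) (f' : X' ⟶ S') (g' : X' ⟶ X)
  (w : g' ≫ f = f' ≫ g) {F : EtCoh.Ab X} (I : InjectiveResolution F)
  (J : InjectiveResolution ((EtCoh.pull g').obj F))

/-- The comparison of the inverse image of a resolution with a resolution. -/
def jMap : ((EtCoh.pull g').mapHomologicalComplex (ComplexShape.up ℕ)).obj I.cocomplex ⟶ J.cocomplex :=
  RDer.descToInjectives (𝟙 _) _ (RDer.mapAug (EtCoh.pull g') I.ι) J.cocomplex J.ι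

theorem jMap_zero : (EtCoh.pull g').map (I.ι.f 0) ≫ (jMap g' I J).f 0 = J.ι.f 0 := by
  have h := RDer.ι_descToInjectives_f_zero (𝟙 _) _ (RDer.mapAug (EtCoh.pull g') I.ι) J.cocomplex J.ι
  simpa [HomologicalComplex.singleMapHomologicalComplex_inv_app_self, jMap] using h

theorem quasiIso_jMap : QuasiIso (jMap g' I J) := by
  have e : RDer.mapAug (EtCoh.pull g') I.ι ≫ jMap g' I J = J.ι := by
    refine HomologicalComplex.from_single_hom_ext ?_
    refine (RDer.ι_descToInjectives_f_zero (𝟙 _) _ (RDer.mapAug (EtCoh.pull g') I.ι) J.cocomplex J.ι).trans ?_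
    exact Category.id_comp _
  haveI : QuasiIso (RDer.mapAug (EtCoh.pull g') I.ι ≫ jMap g' I J) := by rw [e]; infer_instance
  exact quasiIso_of_comp_left (RDer.mapAug (EtCoh.pull g') I.ι) (jMap g' I J)

/-- The adjoint comparison. -/
def thMap : I.cocomplex ⟶ ((EtCoh.push g').mapHomologicalComplex _).obj J.cocomplex where
  f n := (EtCoh.pullPushAdj g').homEquiv _ _ ((jMap g' I J).f n)
  comm' a b _ := by
    show (EtCoh.pullPushAdj g').homEquiv _ _ _ ≫ (EtCoh.push g').map _ =
      _ ≫ (EtCoh.pullPushAdj g').homEquiv _ _ _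
    rw [← Adjunction.homEquiv_naturality_right, ← Adjunction.homEquiv_naturality_left]
    exact congrArg _ ((jMap g' I J).comm a b)

/-- Base change in degree zero on a resolution. -/
def kapN : ((EtCoh.pull g).mapHomologicalComplex (ComplexShape.up ℕ)).obj
      (((EtCoh.push f).mapHomologicalComplex _).obj I.cocomplex) ⟶
    ((EtCoh.push f').mapHomologicalComplex _).obj
      (((EtCoh.pull g').mapHomologicalComplex _).obj I.cocomplex) where
  f n := EtCoh.baseChange0 f g f' g' w (I.cocomplex.X n)
  comm' a b _ := (EtBcKilledLib.bc0_natural f g f' g' w (I.cocomplex.d a b)).symm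

/-- The morphism computing base change. -/
def psiN : ((EtCoh.pull g).mapHomologicalComplex (ComplexShape.up ℕ)).obj
      (((EtCoh.push f).mapHomologicalComplex _).obj I.cocomplex) ⟶
    ((EtCoh.push f').mapHomologicalComplex _).obj J.cocomplex :=
  kapN f g f' g' w I ≫ ((EtCoh.push f').mapHomologicalComplex _).map (jMap g' I J)

theorem psiN_eq (n : ℕ) : (psiN f g f' g' w I J).f n = ((EtCoh.pullPushAdj g).homEquiv _ _).symm
    ((EtBcQLib.cxMap (EtCoh.push f) (EtCoh.push g') (EtCoh.push f') (EtCoh.push g)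
      (EtBcQLib.sqα f g f' g' w) (thMap g' I J)).f n) := by
  show ((EtCoh.pullPushAdj g).homEquiv _ _).symm _ ≫ (EtCoh.push f').map _ =
    ((EtCoh.pullPushAdj g).homEquiv _ _).symm
      ((EtCoh.push f).map ((EtCoh.pullPushAdj g').homEquiv _ _ ((jMap g' I J).f n)) ≫
        (EtBcQLib.sqα f g f' g' w).app _)
  rw [← Adjunction.homEquiv_naturality_right_symm]
  refine congrArg _ ?_
  rw [Adjunction.homEquiv_unit]
  simp only [Functor.map_comp, Category.assoc]
  refine congrArg (_ ≫ ·) ?_
  refine Eq.trans ?_ ((EtBcQLib.sqα f g f' g' w).naturality ((jMap g' I J).f n)).symm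
  simp only [EtBcQLib.sqα, Iso.trans_hom, Iso.symm_hom, NatTrans.comp_app, Category.assoc, Functor.comp_map]
  rfl

/-- Base change in degree `q` is the map of resolutions in homology. -/
theorem homologyMap_psiN (q : ℕ) : homologyMap (psiN f g f' g' w I J) q =
    (RDer.homologyComparison (EtCoh.pull g) _ q ≫ (EtCoh.pull g).map (I.isoRightDerivedObj (EtCoh.push f) q).inv) ≫
      EtBC.bcQ f g f' g' w q F ≫ (J.isoRightDerivedObj (EtCoh.push f') q).hom := by
  have hth : I.ι.f 0 ≫ (thMap g' I J).f 0 =
      (EtCoh.pullPushAdj g').unit.app F ≫ (EtCoh.push g').map (J.ι.f 0) := by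
    show I.ι.f 0 ≫ (EtCoh.pullPushAdj g').homEquiv _ _ ((jMap g' I J).f 0) = _
    rw [← Adjunction.homEquiv_naturality_left, jMap_zero]
    exact Adjunction.homEquiv_unit _ _ _ _
  have h := EtBcQLib.bcu_comp (EtCoh.push f) (EtCoh.push g') (EtCoh.push f') (EtCoh.push g)
    (EtBcQLib.sqα f g f' g' w) q ((EtCoh.pullPushAdj g').unit.app F) I J (thMap g' I J) hth
  rw [← EtBcQLib.bcQAdj_eq] at h
  have e : EtBC.bcQ f g f' g' w q F ≫ (J.isoRightDerivedObj (EtCoh.push f') q).hom =
      (EtCoh.pull g).map (I.isoRightDerivedObj (EtCoh.push f) q).hom ≫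
        ((EtCoh.pullPushAdj g).homEquiv _ _).symm (EtBcQLib.bcH (EtCoh.push f) (EtCoh.push g') (EtCoh.push f')
          (EtCoh.push g) (EtBcQLib.sqα f g f' g' w) q (thMap g' I J)) := by
    refine (Adjunction.homEquiv_naturality_right_symm _ _ _).symm.trans ?_
    refine Eq.trans ?_ (Adjunction.homEquiv_naturality_left_symm _ _ _)
    exact congrArg _ h
  rw [e, Category.assoc]
  erw [← Functor.map_comp_assoc, Iso.inv_hom_id, CategoryTheory.Functor.map_id, Category.id_comp]
  exact (homology_transpose (EtCoh.pullPushAdj g) _ (psiN f g f' g' w I J)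
    (psiN_eq f g f' g' w I J) q).symm

theorem mapExtendNatIso_f {A B : Scheme.{u}} (T : EtCoh.Ab A ⥤ EtCoh.Ab B) [T.Additive]
    (K : CochainComplex (EtCoh.Ab A) ℕ) (k : ℕ) :
    (SpSeqLib.mapExtendNatIso T K).hom.f (k : ℤ) =
      T.map (K.extendXIso ComplexShape.embeddingUpNat (i := k) rfl).hom ≫
        (((T.mapHomologicalComplex _).obj K).extendXIso ComplexShape.embeddingUpNat (i := k) rfl).inv := by
  show (SpSeqLib.mapExtendNatXIso T K (k : ℤ)).hom = _
  rw [SpSeqLib.mapExtendNatXIso, dif_pos (Int.natCast_nonneg k)]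
  rfl

/-- The extension of the comparison. -/
def jExt : ((EtCoh.pull g').mapHomologicalComplex (ComplexShape.up ℤ)).obj I.cochainComplex ⟶ J.cochainComplex :=
  (SpSeqLib.mapExtendNatIso (EtCoh.pull g') I.cocomplex).hom ≫
    HomologicalComplex.extendMap (jMap g' I J) ComplexShape.embeddingUpNat

theorem quasiIso_jExt : QuasiIso (jExt g' I J) := by
  haveI := quasiIso_jMap g' I J
  haveI : QuasiIso (HomologicalComplex.extendMap (jMap g' I J) ComplexShape.embeddingUpNat) := inferInstance
  unfold jExt
  infer_instance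

/-- The extended morphism computing base change. -/
def psiZ : ((EtCoh.pull g).mapHomologicalComplex (ComplexShape.up ℤ)).obj
      (((EtCoh.push f).mapHomologicalComplex _).obj I.cochainComplex) ⟶
    ((EtCoh.push f').mapHomologicalComplex _).obj J.cochainComplex :=
  EtBcDLib.kappa f g f' g' w I.cochainComplex ≫ ((EtCoh.push f').mapHomologicalComplex _).map (jExt g' I J)

theorem psiZ_eq : psiZ f g f' g' w I J ≫ (SpSeqLib.mapExtendNatIso (EtCoh.push f') J.cocomplex).hom =
    (((EtCoh.pull g).mapHomologicalComplex _).map (SpSeqLib.mapExtendNatIso (EtCoh.push f) I.cocomplex).hom ≫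
      (SpSeqLib.mapExtendNatIso (EtCoh.pull g) (((EtCoh.push f).mapHomologicalComplex _).obj I.cocomplex)).hom) ≫
      HomologicalComplex.extendMap (psiN f g f' g' w I J) ComplexShape.embeddingUpNat := by
  refine HomologicalComplex.hom_ext _ _ fun n => ?_
  by_cases hn : 0 ≤ n
  · obtain ⟨k, rfl⟩ := Int.eq_ofNat_of_zero_le hn
    simp only [psiZ, jExt, HomologicalComplex.comp_f, Functor.mapHomologicalComplex_map_f, Functor.map_comp,
      mapExtendNatIso_f, HomologicalComplex.extendMap_f _ ComplexShape.embeddingUpNat (i := k) (i' := (k : ℤ)) rfl,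
      Category.assoc, Iso.inv_hom_id_assoc]
    simp only [psiN, kapN, EtBcDLib.kappa, HomologicalComplex.comp_f, Functor.mapHomologicalComplex_map_f,
      Category.assoc]
    simp only [Iso.map_inv_hom_id_assoc]
    erw [reassoc_of% (EtBcKilledLib.bc0_natural f g f' g' w
      (I.cocomplex.extendXIso ComplexShape.embeddingUpNat (i := k) (i' := (k : ℤ)) rfl).hom)]
    rfl
  · exact ((EtCoh.pull g).map_isZero ((EtCoh.push f).map_isZero
      (CochainComplex.isZero_of_isStrictlyGE I.cochainComplex 0 n (by omega)))).eq_of_src _ _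

/-- The extended morphism in homology. -/
theorem nonempty_arrow_iso (q : ℕ) : Nonempty (Arrow.mk (homologyMap (psiZ f g f' g' w I J) (q : ℤ)) ≅
    Arrow.mk (EtBC.bcQ f g f' g' w q F)) := by
  haveI := isIso_homologyComparison (G := EtCoh.pull g) (((EtCoh.push f).mapHomologicalComplex _).obj I.cocomplex) q
  let A : ((EtCoh.pull g).mapHomologicalComplex (ComplexShape.up ℤ)).obj
      (((EtCoh.push f).mapHomologicalComplex _).obj I.cochainComplex) ≅
        (((EtCoh.pull g).mapHomologicalComplex _).obj
          (((EtCoh.push f).mapHomologicalComplex _).obj I.cocomplex)).extend ComplexShape.embeddingUpNat :=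
    ((EtCoh.pull g).mapHomologicalComplex _).mapIso (SpSeqLib.mapExtendNatIso (EtCoh.push f) I.cocomplex) ≪≫
      SpSeqLib.mapExtendNatIso (EtCoh.pull g) _
  let B := SpSeqLib.mapExtendNatIso (EtCoh.push f') J.cocomplex
  have h1 : homologyMap (psiZ f g f' g' w I J) (q : ℤ) ≫ homologyMap B.hom _ =
      homologyMap A.hom _ ≫
        homologyMap (HomologicalComplex.extendMap (psiN f g f' g' w I J) ComplexShape.embeddingUpNat) (q : ℤ) := by
    rw [← homologyMap_comp, ← homologyMap_comp]
    exact congrArg (fun t => homologyMap t (q : ℤ)) (psiZ_eq f g f' g' w I J)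
  have h2 := HomologicalComplex.extendHomologyIso_hom_naturality (psiN f g f' g' w I J) ComplexShape.embeddingUpNat
    (j := q) (j' := (q : ℤ)) rfl
  let a := homologyMapIso A (q : ℤ) ≪≫ HomologicalComplex.extendHomologyIso _ ComplexShape.embeddingUpNat rfl ≪≫
    asIso (RDer.homologyComparison (EtCoh.pull g) _ q) ≪≫
    ((EtCoh.pull g).mapIso (I.isoRightDerivedObj (EtCoh.push f) q)).symm
  let b := homologyMapIso B (q : ℤ) ≪≫ HomologicalComplex.extendHomologyIso _ ComplexShape.embeddingUpNat rfl ≪≫
    (J.isoRightDerivedObj (EtCoh.push f') q).symm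
  refine ⟨Arrow.isoMk a b ?_⟩
  show a.hom ≫ EtBC.bcQ f g f' g' w q F = homologyMap (psiZ f g f' g' w I J) (q : ℤ) ≫ b.hom
  simp only [a, b, Iso.trans_hom, Iso.symm_hom, homologyMapIso_hom, asIso_hom, Functor.mapIso_inv, Category.assoc]
  rw [reassoc_of% h1, reassoc_of% h2, homologyMap_psiN]
  simp only [Category.assoc, Iso.hom_inv_id, Category.comp_id]

end EtBcBridgeLib
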