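import Groth.Agent.EtBcBridgeLib.Stage
import Groth.Agent.EtStrictAcycLib.Connected
import Groth.Agent.EtAcycFibLib.Fibres
import Groth.Agent.EtAcycFibLib.Acyclic
import Groth.Agent.EtAcycFibLib.Clopen

/-!
# Base change for open immersions makes the geometric fibres between strict localisations acyclic
-/

set_option autoImplicit false
set_option linter.all false
set_option backward.isDefEq.respectTransparency false
set_option backward.isDefEq.respectTransparency.types false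
set_option synthInstance.maxHeartbeats 400000
set_option maxHeartbeats 2000000

universe u

open CategoryTheory CategoryTheory.Limits CategoryTheory.Abelian AlgebraicGeometry Opposite DescSecLib
open Groth.Agent.EtShLib EtRpushStalkLib EtAcycFibLib

noncomputable section

namespace EtBcBridgeLib

attribute [local instance] EtSliceLib.pullExact

/-- The unit class of a constant sheaf survives at a geometric point. -/
theorem exists_class_ne_zero (Y : Scheme.{u}) (ℓ : ℕ) (hℓ : ℓ.Prime) :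
    ∃ c : EtCoh.H (Over.mk (𝟙 Y)).left (etSys.M (EtCoh.const Y (ZMod ℓ)) (Over.mk (𝟙 Y))) 0,
      ∀ {A : Over Y} (φ : A ⟶ Over.mk (𝟙 Y)), Nonempty ↥A.left →
        etSys.Hmap (EtCoh.const Y (ZMod ℓ)) 0 φ c ≠ 0 := by
  haveI : Fact ℓ.Prime := ⟨hℓ⟩
  let Cu : AddCommGrpCat.{u + 1} := AddCommGrpCat.of (ULift.{u + 1} (ZMod ℓ))
  let f : ConstHLib.Zu.{u} ⟶ Cu := AddCommGrpCat.ofHom
    ((AddEquiv.ulift.symm.toAddMonoidHom.comp (Int.castAddHom (ZMod ℓ))).comp AddEquiv.ulift.toAddMonoidHom)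
  let e : EtCoh.const Y (ZMod ℓ) ≅ etSys.M (EtCoh.const Y (ZMod ℓ)) (Over.mk (𝟙 Y)) :=
    (EtCore.pullConst (𝟙 Y) (ZMod ℓ)).symm
  refine ⟨Ext.mk₀ ((constantSheaf Y.smallEtaleTopology AddCommGrpCat.{u + 1}).map f ≫ e.hom),
    fun {A} φ hA h => ?_⟩
  haveI := EtAcycLib.isIso_theta (EtCoh.const Y (ZMod ℓ)) φ
  haveI : PreservesFiniteLimits (EtCoh.pull φ.left) := EtSliceLib.pullExact φ.left
  rw [EtAcycLib.hmap_eq_Hpull] at h
  have h1 : EtCore.Hpull φ.left _ 0
      (Ext.mk₀ ((constantSheaf Y.smallEtaleTopology AddCommGrpCat.{u + 1}).map f ≫ e.hom)) = 0 :=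
    (EtAcycLib.bijective_mk₀_iso_postcomp (asIso (etSys.θ (EtCoh.const Y (ZMod ℓ)) φ)) 0).1
      (h.trans (Ext.zero_comp _ _ _ _ _).symm)
  change (Ext.mk₀ (EtCore.pullConst φ.left ℤ).inv).comp
    (Ext.mapExactFunctor (EtCoh.pull φ.left) (Ext.mk₀ _)) (zero_add 0) = 0 at h1
  rw [Ext.mapExactFunctor_mk₀, Ext.mk₀_comp_mk₀, ← Ext.mk₀_zero] at h1
  have h2 := (Ext.mk₀_bijective _ _).1 h1
  haveI : (EtCoh.pull φ.left).Additive := (EtCoh.pullPushAdj φ.left).left_adjoint_additive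
  rw [Functor.map_comp] at h2
  have h3 : (EtCoh.pull φ.left).map ((constantSheaf Y.smallEtaleTopology AddCommGrpCat.{u + 1}).map f) = 0 := by
    rw [← cancel_epi (EtCore.pullConst φ.left ℤ).inv, ← cancel_mono ((EtCoh.pull φ.left).map e.hom), Category.assoc, h2,
      comp_zero, zero_comp]
  have h4 : (constantSheaf A.left.smallEtaleTopology AddCommGrpCat.{u + 1}).map f = 0 := by
    have hn := (EtCore.pullConstIso φ.left).hom.naturality f
    rw [Functor.comp_map] at hn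
    erw [h3] at hn
    rw [zero_comp] at hn
    exact (cancel_epi ((EtCore.pullConstIso φ.left).hom.app _)).1 (hn.symm.trans comp_zero.symm)
  have h5 := congrArg (fun t => t ⟨1⟩) (cstUnit_naturality (X := A.left) f)
  rw [h4] at h5
  haveI : Nonempty (EtCoh.top A.left).left := hA
  refine EtStrictAcycLib.const_one_ne_zero (T := A.left) (ZMod ℓ) 1 one_ne_zero (EtCoh.top A.left) ?_
  have h6 : cstUnit A.left Cu ⟨1⟩ = 0 := by
    refine Eq.trans ?_ (h5.symm.trans rfl)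
    show cstUnit A.left Cu ⟨1⟩ = cstUnit A.left Cu (f ⟨1⟩)
    refine congrArg _ (ULift.ext _ _ ?_)
    show (1 : ZMod ℓ) = Int.castAddHom (ZMod ℓ) 1
    simp
  exact (congrArg _ h6).trans (map_zero _)

section Fibre

variable {X Y : Scheme.{u}} {g : X ⟶ Y} {L : Set ℕ} {n : ℕ} (H : OpenBC g L n) [IsAffine Y]
  (x : X) (RS : Type u) [CommRing RS] [IsLocalRing RS] [Algebra (Y.presheaf.stalk (g.base x)) RS]
  [IsLocalHom (algebraMap (Y.presheaf.stalk (g.base x)) RS)]
  [Hensel.IsStrictHenselization (Y.presheaf.stalk (g.base x)) RS]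
  (RX : Type u) [CommRing RX] [IsLocalRing RX] [Algebra (X.presheaf.stalk x) RX]
  [IsLocalHom (algebraMap (X.presheaf.stalk x) RX)] [Hensel.IsStrictHenselization (X.presheaf.stalk x) RX]
  (ψ : RS →+* RX) [IsLocalHom ψ]
  (hψ : ψ.comp (algebraMap (Y.presheaf.stalk (g.base x)) RS) = (algebraMap (X.presheaf.stalk x) RX).comp (g.stalkMap x).hom)

/-- The morphism of strict localisations. -/
abbrev hm : Spec (CommRingCat.of RX) ⟶ Spec (CommRingCat.of RS) := Spec.map (CommRingCat.ofHom ψ)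

/-- The lower strict localisation over the base. -/
abbrev gS : Spec (CommRingCat.of RS) ⟶ Y := Hens2.specOf Y (g.base x) RS

variable (C : Chart (gS (g := g) x RS)) (y : Spec (CommRingCat.of RS)) (Ω : Type u) [Field Ω] [IsSepClosed Ω]
  [Algebra ((Spec (CommRingCat.of RS)).residueField y) Ω]
  [Algebra.IsAlgebraic ((Spec (CommRingCat.of RS)).residueField y) Ω]

omit [IsLocalHom ψ] [IsSepClosed Ω] in
/-- The geometric point is algebraic over every neighbourhood. -/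
theorem exists_polys (i : C.I) (z : Ω) :
    haveI : IsAffine (C.DS.obj i).left := C.aff i
    ∃ (P : Polynomial Γ((C.DS.obj i).left, ⊤)) (d : ℕ), P.natDegree ≤ d ∧
      (Spec.preimage ((EtAcyc.geomPt (Spec (CommRingCat.of RS)) y Ω ≫ C.π i) ≫
        (C.DS.obj i).left.isoSpec.hom)).hom (P.coeff d) ≠ 0 ∧
      P.eval₂ (Spec.preimage ((EtAcyc.geomPt (Spec (CommRingCat.of RS)) y Ω ≫ C.π i) ≫
        (C.DS.obj i).left.isoSpec.hom)).hom z = 0 := by
  haveI : IsAffine (C.DS.obj i).left := C.aff i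
  let s := gS (g := g) x RS
  haveI : WeaklyEtale s := Groth.Agent.S0754.result Y (g.base x) RS
  letI : Algebra (Y.residueField (s.base y)) Ω :=
    ((algebraMap ((Spec (CommRingCat.of RS)).residueField y) Ω).comp (s.residueFieldMap y).hom).toAlgebra
  haveI : Algebra.IsAlgebraic (Y.residueField (s.base y)) Ω :=
    isAlgebraic_comp (s.residueFieldMap y).hom (isAlgebraic_residueFieldMap s y)
  obtain ⟨P, d, hd, h0, h1⟩ := exists_poly Y (s.base y) Ω z
  let v : (C.DS.obj i).left ⟶ Y := (C.DS.obj i).hom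
  let φ := (Spec.preimage ((EtAcyc.geomPt (Spec (CommRingCat.of RS)) y Ω ≫ C.π i) ≫
    (C.DS.obj i).left.isoSpec.hom))
  have he : v.appTop ≫ φ = CommRingCat.ofHom
      ((algebraMap (Y.residueField (s.base y)) Ω).comp (Y.Γevaluation (s.base y)).hom) := by
    apply Spec.map_injective
    rw [Spec.map_comp, Spec.map_preimage]
    have ht : EtAcyc.geomPt Y (s.base y) Ω ≫ Y.isoSpec.hom = Spec.map (CommRingCat.ofHom
        ((algebraMap (Y.residueField (s.base y)) Ω).comp (Y.Γevaluation (s.base y)).hom)) := by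
      show (Spec.map _ ≫ Spec.map (Y.residue _) ≫ Y.fromSpecStalk _) ≫ Y.isoSpec.hom = _
      rw [Category.assoc, Category.assoc, Scheme.isoSpec_hom, Scheme.fromSpecStalk_toSpecΓ, ← Spec.map_comp,
        ← Spec.map_comp]
      rfl
    have hg : EtAcyc.geomPt Y (s.base y) Ω = EtAcyc.geomPt (Spec (CommRingCat.of RS)) y Ω ≫ s := by
      show Spec.map _ ≫ Y.fromSpecResidueField _ = (Spec.map _ ≫ (Spec (CommRingCat.of RS)).fromSpecResidueField y) ≫ s
      rw [Category.assoc, ← s.SpecMap_residueFieldMap_fromSpecResidueField y, ← Spec.map_comp_assoc]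
      rfl
    have key : C.π i ≫ (C.DS.obj i).left.isoSpec.hom ≫ Spec.map v.appTop = s ≫ Y.isoSpec.hom := by
      rw [Scheme.isoSpec_hom_naturality, ← Category.assoc]
      exact congrArg (· ≫ Y.isoSpec.hom) (C.w i)
    rw [← ht, hg]
    simp only [Category.assoc, key]
  have he' : φ.hom.comp v.appTop.hom =
      (algebraMap (Y.residueField (s.base y)) Ω).comp (Y.Γevaluation (s.base y)).hom :=
    congrArg CommRingCat.Hom.hom he
  refine ⟨P.map v.appTop.hom, d, Polynomial.natDegree_map_le.trans hd, ?_, ?_⟩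
  · show φ.hom ((P.map v.appTop.hom).coeff d) ≠ 0
    rw [Polynomial.coeff_map, ← RingHom.comp_apply φ.hom, he']
    exact h0
  · show (P.map v.appTop.hom).eval₂ φ.hom z = 0
    rw [Polynomial.eval₂_map, he']
    exact h1

include H hψ in
/-- The stage comparison. -/
theorem bijective_stage (ℓ : ℕ) (hℓ : ℓ.Prime) (hL : ℓ ∈ L) {V Z : Scheme.{u}} (v : V ⟶ Y) [IsAffine V]
    [AlgebraicGeometry.Etale v] (π : Spec (CommRingCat.of RS) ⟶ V) (hπ : π ≫ v = gS (g := g) x RS)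
    (p : Z ⟶ V) [IsAffine Z] [LocallyQuasiFinite p] [LocallyOfFinitePresentation p]
    (φ : Over.mk (pullback.snd ((hm RS RX ψ ≫ π) ≫ v) (p ≫ v) ≫ p ≫ v) ⟶
      Over.mk (pullback.snd (π ≫ v) (p ≫ v) ≫ p ≫ v))
    (hφ₁ : φ.left ≫ pullback.fst _ _ = pullback.fst _ _ ≫ hm RS RX ψ)
    (hφ₂ : φ.left ≫ pullback.snd _ _ = pullback.snd _ _) (q : ℕ) (hq : q ≤ n) :
    Function.Bijective (etSys.Hmap (EtCoh.const Y (ZMod ℓ)) q φ) := by
  haveI := locallyQuasiFinite_of_etale v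
  have sqS : IsPullback (pullback.snd (π ≫ v) (p ≫ v)) (pullback.fst (π ≫ v) (p ≫ v)) (p ≫ v)
      (Hens2.specOf Y (g.base x) RS) := by
    have := (IsPullback.of_hasPullback (π ≫ v) (p ≫ v)).flip
    convert this using 1
    exact hπ.symm
  have sqX : IsPullback (pullback.snd ((hm RS RX ψ ≫ π) ≫ v) (p ≫ v)) (pullback.fst ((hm RS RX ψ ≫ π) ≫ v) (p ≫ v))
      (p ≫ v) (Hens2.specOf X x RX ≫ g) := by
    have := (IsPullback.of_hasPullback ((hm RS RX ψ ≫ π) ≫ v) (p ≫ v)).flip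
    convert this using 1
    exact (EtBcQLib.specOf_comp g x RS RX ψ hψ).symm.trans
      ((congrArg (hm RS RX ψ ≫ ·) hπ.symm).trans (Category.assoc _ _ _).symm)
  exact H.bijective_Hmap x RS RX ψ hψ (p ≫ v) _ _ sqS _ _ sqX φ.left hφ₂ hφ₁ (EtCoh.const Y (ZMod ℓ))
    ((pow_one ℓ) ▸ isLTorsion_const (Y := Y) hℓ hL 1) φ rfl q hq

include H hψ C in
/-- Every class on the geometric fibre comes from the geometric point. -/
theorem surjective_toPt (ℓ : ℕ) (hℓ : ℓ.Prime) (hL : ℓ ∈ L) (q : ℕ) (hq : q ≤ n)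
    (φ : Over.mk (pullback.fst (hm RS RX ψ) (EtAcyc.geomPt (Spec (CommRingCat.of RS)) y Ω) ≫
        hm RS RX ψ ≫ gS (g := g) x RS) ⟶
      Over.mk (EtAcyc.geomPt (Spec (CommRingCat.of RS)) y Ω ≫ gS (g := g) x RS))
    (hφ : φ.left = pullback.snd (hm RS RX ψ) (EtAcyc.geomPt (Spec (CommRingCat.of RS)) y Ω)) :
    Function.Surjective (etSys.Hmap (EtCoh.const Y (ZMod ℓ)) q φ) := by
  intro ξ
  let F := EtCoh.const Y (ZMod ℓ)
  let ω := EtAcyc.geomPt (Spec (CommRingCat.of RS)) y Ω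
  let h := hm RS RX ψ
  let f := h ≫ gS (g := g) x RS
  haveI : ∀ i, IsAffine ((fibD C h ω).obj i) := fun i => fibD_affine C h ω i
  haveI : ∀ i j (m : i ⟶ j), IsAffineHom ((fibD C h ω).map m) := fun i j m => isAffineHom_of_isAffine _
  let tY : fibD C h ω ⟶ (Functor.const _).obj Y :=
    { app := fun i => pullback.fst (h ≫ C.π i) (ω ≫ C.π i) ≫ f
      naturality := fun i j m => by simp [fibD] }
  have hw : ∀ i, (fibCone C h ω).π.app i ≫ tY.app i = pullback.fst h ω ≫ f := fun i => by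
    simp [fibCone, tY]
  obtain ⟨i, x₁, hx₁⟩ := EtStrictAcycLib.exists_Hmap_stgPt F tY (fibCone C h ω) (fibLimit C h ω)
    (pullback.fst h ω ≫ f) hw q ξ
  haveI : IsAffine (C.DS.obj i).left := C.aff i
  let v : (C.DS.obj i).left ⟶ Y := (C.DS.obj i).hom
  haveI : AlgebraicGeometry.Etale v := (C.DS.obj i).prop
  haveI : IsSeparated v := inferInstance
  obtain ⟨Z, p, z, hz, x₂, hZ, hp, hp', hx₂⟩ := exists_qf_lift (h ≫ C.π i) (ω ≫ C.π i)
    (fun z => exists_polys x RS C y Ω i z) F f q x₁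
  haveI := hZ; haveI := hp; haveI := hp'
  have hav : (h ≫ C.π i) ≫ v = f := by
    show (h ≫ C.π i) ≫ v = h ≫ _
    rw [Category.assoc, C.w i]
  let j : Over.mk (pullback.fst (h ≫ C.π i) p ≫ f) ⟶
      Over.mk (pullback.snd ((h ≫ C.π i) ≫ v) (p ≫ v) ≫ p ≫ v) :=
    Over.homMk (pullback.mapDesc (h ≫ C.π i) p v) (by
      show pullback.mapDesc _ _ _ ≫ pullback.snd _ _ ≫ p ≫ v = pullback.fst _ _ ≫ f
      rw [← Category.assoc]
      refine (congrArg (· ≫ p ≫ v) ((pullback.lift_snd _ _ _).trans (Category.comp_id _))).trans ?_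
      exact (pullback.condition_assoc v).symm.trans (congrArg (pullback.fst _ _ ≫ ·) hav))
  haveI : IsClosedImmersion (pullback.mapDesc (h ≫ C.π i) p v) := inferInstance
  haveI : IsOpenImmersion j.left :=
    MorphismProperty.of_isPullback (pullback_map_diagonal_isPullback (h ≫ C.π i) p v) inferInstance
  have hcl : IsClosed (Set.range j.left.base) := (pullback.mapDesc (h ≫ C.π i) p v).isClosedEmbedding.isClosed_range
  obtain ⟨x₃, hx₃, -⟩ := exists_extend_clopen F q j hcl x₂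
  let m : Over.mk (pullback.snd ((h ≫ C.π i) ≫ v) (p ≫ v) ≫ p ≫ v) ⟶
      Over.mk (pullback.snd (C.π i ≫ v) (p ≫ v) ≫ p ≫ v) :=
    Over.homMk (pullback.map _ _ _ _ h (𝟙 Z) (𝟙 Y) (by simp) (by simp)) (by simp)
  obtain ⟨η, hη⟩ := (bijective_stage H x RS RX ψ hψ ℓ hℓ hL v (C.π i) (C.w i) p m (pullback.lift_fst _ _ _)
    ((pullback.lift_snd _ _ _).trans (Category.comp_id _))
    q hq).2 x₃
  let k : Over.mk (ω ≫ gS (g := g) x RS) ⟶ Over.mk (pullback.snd (C.π i ≫ v) (p ≫ v) ≫ p ≫ v) :=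
    Over.homMk (pullback.lift ω z
        (((Category.assoc _ _ _).symm.trans (congrArg (· ≫ v) hz.symm)).trans (Category.assoc _ _ _)))
      (by
        show pullback.lift _ _ _ ≫ pullback.snd _ _ ≫ p ≫ v = ω ≫ gS (g := g) x RS
        rw [pullback.lift_snd_assoc]
        exact (Category.assoc _ _ _).symm.trans ((congrArg (· ≫ v) hz).trans
          ((Category.assoc _ _ _).trans (congrArg (ω ≫ ·) (C.w i)))))
  refine ⟨etSys.Hmap F q k η, ?_⟩
  rw [← PullSys.Hmap_comp, ← hx₁, ← hx₂, ← hx₃, ← hη, ← PullSys.Hmap_comp, ← PullSys.Hmap_comp, ← PullSys.Hmap_comp]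
  refine congrArg (fun t => etSys.Hmap F q t η) (Over.OverMorphism.ext ?_)
  simp only [Over.comp_left, Category.assoc]
  apply pullback.hom_ext
  · simp [m, j, k, hφ, fibCone, EtContLib.stgPt, h, ω, pullback.condition]
  · simp [m, j, k, hφ, fibCone, EtContLib.stgPt, h, ω]

include H hψ C in
/-- The geometric fibre is nonempty. -/
theorem nonempty_fibre (ℓ : ℕ) (hℓ : ℓ.Prime) (hL : ℓ ∈ L) :
    Nonempty ↥(pullback (hm RS RX ψ) (EtAcyc.geomPt (Spec (CommRingCat.of RS)) y Ω)) := by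
  let F := EtCoh.const Y (ZMod ℓ)
  let ω := EtAcyc.geomPt (Spec (CommRingCat.of RS)) y Ω
  let h := hm RS RX ψ
  haveI : ∀ i, IsAffine ((fibD C h ω).obj i) := fun i => fibD_affine C h ω i
  haveI : ∀ i j (m : i ⟶ j), IsAffineHom ((fibD C h ω).map m) := fun i j m => isAffineHom_of_isAffine _
  suffices ∀ i, Nonempty ↥((fibD C h ω).obj i) by
    haveI := this
    exact Scheme.nonempty_of_isLimit _ _ (fibLimit C h ω)
  intro i
  haveI : IsAffine (C.DS.obj i).left := C.aff i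
  refine nonempty_of_qf_stages (h ≫ C.π i) (ω ≫ C.π i) (fun z => exists_polys x RS C y Ω i z)
    fun Z p z hz hZ hp hp' => ?_
  haveI := hZ; haveI := hp; haveI := hp'
  by_contra hne
  let v : (C.DS.obj i).left ⟶ Y := (C.DS.obj i).hom
  haveI : AlgebraicGeometry.Etale v := (C.DS.obj i).prop
  haveI : IsSeparated v := inferInstance
  obtain ⟨c, hc⟩ := exists_class_ne_zero Y ℓ hℓ
  let jS : Over.mk (pullback.mapDesc (C.π i) p v ≫ pullback.snd _ _ ≫ p ≫ v) ⟶
      Over.mk (pullback.snd (C.π i ≫ v) (p ≫ v) ≫ p ≫ v) :=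
    Over.homMk (pullback.mapDesc (C.π i) p v) rfl
  haveI : IsClosedImmersion (pullback.mapDesc (C.π i) p v) := inferInstance
  haveI : IsOpenImmersion jS.left :=
    MorphismProperty.of_isPullback (pullback_map_diagonal_isPullback (C.π i) p v) inferInstance
  obtain ⟨e, he, he0⟩ := exists_extend_clopen F 0 jS
    ((pullback.mapDesc (C.π i) p v).isClosedEmbedding.isClosed_range)
    (etSys.Hmap F 0 (Over.homMk _ (Category.comp_id _) : Over.mk _ ⟶ Over.mk (𝟙 Y)) c)
  let m : Over.mk (pullback.snd ((h ≫ C.π i) ≫ v) (p ≫ v) ≫ p ≫ v) ⟶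
      Over.mk (pullback.snd (C.π i ≫ v) (p ≫ v) ≫ p ≫ v) :=
    Over.homMk (pullback.map _ _ _ _ h (𝟙 Z) (𝟙 Y) (by simp) (by simp)) (by simp)
  have hdisj : Disjoint (Set.range m.left.base) (Set.range jS.left.base) := by
    rw [Set.disjoint_left]
    rintro _ ⟨a, rfl⟩ ⟨b, hb⟩
    apply hne
    have h1 : (C.π i).base ((pullback.fst (C.π i) p).base b) = p.base ((pullback.snd (C.π i) p).base b) :=
      congrArg (fun t => t.base b) (pullback.condition (f := C.π i) (g := p))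
    have h2 : (pullback.fst (C.π i) p).base b = h.base ((pullback.fst ((h ≫ C.π i) ≫ v) (p ≫ v)).base a) := by
      have h3 := congrArg (pullback.fst (C.π i ≫ v) (p ≫ v)).base hb
      have e1 : jS.left ≫ pullback.fst (C.π i ≫ v) (p ≫ v) = pullback.fst (C.π i) p :=
        (pullback.lift_fst _ _ _).trans (Category.comp_id _)
      have e2 : m.left ≫ pullback.fst (C.π i ≫ v) (p ≫ v) = pullback.fst ((h ≫ C.π i) ≫ v) (p ≫ v) ≫ h :=
        pullback.lift_fst _ _ _
      exact (congrArg (fun t => t.base b) e1).symm.trans (h3.trans (congrArg (fun t => t.base a) e2))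
    obtain ⟨w, -⟩ := Scheme.Pullback.exists_preimage_pullback (f := h ≫ C.π i) (g := p)
      ((pullback.fst ((h ≫ C.π i) ≫ v) (p ≫ v)).base a) ((pullback.snd (C.π i) p).base b)
      (by rw [Scheme.Hom.comp_apply, ← h2, h1])
    exact ⟨w⟩
  have he1 : e = 0 := (bijective_stage H x RS RX ψ hψ ℓ hℓ hL v (C.π i) (C.w i) p m (pullback.lift_fst _ _ _)
    ((pullback.lift_snd _ _ _).trans (Category.comp_id _))
    0 (Nat.zero_le n)).1 ((he0 m hdisj).trans (map_zero _).symm)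
  let k : Over.mk (ω ≫ gS (g := g) x RS) ⟶ Over.mk (pullback.mapDesc (C.π i) p v ≫ pullback.snd _ _ ≫ p ≫ v) :=
    Over.homMk (pullback.lift ω z hz.symm)
      (by
        show pullback.lift _ _ _ ≫ pullback.mapDesc _ _ _ ≫ pullback.snd _ _ ≫ p ≫ v = ω ≫ gS (g := g) x RS
        have e : pullback.mapDesc (C.π i) p v ≫ pullback.snd _ _ = pullback.snd (C.π i) p :=
          (pullback.lift_snd _ _ _).trans (Category.comp_id _)
        refine (congrArg (pullback.lift _ _ _ ≫ ·) ((Category.assoc _ _ _).symm.trans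
          (congrArg (· ≫ p ≫ v) e))).trans ?_
        rw [pullback.lift_snd_assoc]
        exact (Category.assoc _ _ _).symm.trans ((congrArg (· ≫ v) hz).trans
          ((Category.assoc _ _ _).trans (congrArg (ω ≫ ·) (C.w i)))))
  refine hc (k ≫ (Over.homMk _ (Category.comp_id _) : Over.mk _ ⟶ Over.mk (𝟙 Y))) (show Nonempty ↥(Spec (CommRingCat.of Ω)) from ⟨default⟩) ?_
  rw [PullSys.Hmap_comp, ← he, he1, map_zero, map_zero]

include H hψ C in
/-- The geometric fibre is acyclic. -/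
theorem acyclicScheme_fibre (hL : ∃ ℓ ∈ L, ℓ.Prime) :
    EtAcyc.IsAcyclicSchemeN L n (pullback (hm RS RX ψ) (EtAcyc.geomPt (Spec (CommRingCat.of RS)) y Ω)) := by
  let ω := EtAcyc.geomPt (Spec (CommRingCat.of RS)) y Ω
  let P := pullback (hm RS RX ψ) ω
  let φ : Over.mk (pullback.fst (hm RS RX ψ) ω ≫ hm RS RX ψ ≫ gS (g := g) x RS) ⟶
      Over.mk (ω ≫ gS (g := g) x RS) :=
    Over.homMk (pullback.snd (hm RS RX ψ) ω) (by
      show pullback.snd _ _ ≫ ω ≫ _ = pullback.fst _ _ ≫ hm RS RX ψ ≫ _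
      rw [pullback.condition_assoc])
  have key : ∀ ℓ : ℕ, ℓ.Prime → ℓ ∈ L → ∀ q, q ≤ n →
      ∃ Φ : EtCoh.H (Spec (CommRingCat.of Ω)) (EtCoh.const (Spec (CommRingCat.of Ω)) (ZMod ℓ)) q →
        EtCoh.H P (EtCoh.const P (ZMod ℓ)) q, Function.Surjective Φ := fun ℓ hℓ hℓL q hq => by
    let eΩ := (EtAcycLib.bijective_mk₀_iso_postcomp (Z := EtCoh.const (Spec (CommRingCat.of Ω)) ℤ)
      (EtCore.pullConst (ω ≫ gS (g := g) x RS) (ZMod ℓ)).symm q)
    let eP := (EtAcycLib.bijective_mk₀_iso_postcomp (Z := EtCoh.const P ℤ)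
      (EtCore.pullConst (pullback.fst (hm RS RX ψ) ω ≫ hm RS RX ψ ≫ gS (g := g) x RS) (ZMod ℓ)) q)
    exact ⟨_, (eP.2.comp (surjective_toPt H x RS RX ψ hψ C y Ω ℓ hℓ hℓL q hq φ rfl)).comp eΩ.2⟩
  obtain ⟨ℓ₀, hℓ₀L, hℓ₀⟩ := hL
  haveI : Fact ℓ₀.Prime := ⟨hℓ₀⟩
  have hne := nonempty_fibre H x RS RX ψ hψ C y Ω ℓ₀ hℓ₀ hℓ₀L
  refine ⟨hne, ?_, fun ℓ hℓ hℓL q hq₁ hq => ?_⟩
  · obtain ⟨Φ, hΦ⟩ := key ℓ₀ hℓ₀ hℓ₀L 0 (Nat.zero_le n)
    obtain ⟨e, he⟩ := EtStrictAcycLib.exists_bijective_point (ZMod ℓ₀) Ω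
    rw [connectedSpace_iff_clopen]
    refine ⟨hne, fun U hU => ?_⟩
    by_contra h
    push Not at h
    obtain ⟨f, hf⟩ := EtStrictAcycLib.exists_injective_of_clopen (ZMod ℓ₀) U hU h.1 (Set.nonempty_compl.2 h.2)
    choose s hs using fun m => EtContLib.sec_surjective (f m)
    choose t ht using fun m => hΦ (s m)
    have hinj : Function.Injective fun m => e (t m) := fun m m' h' => hf (by
      rw [← hs m, ← hs m', ← ht m, ← ht m', he.1 h'])
    have h1 := Fintype.card_le_of_injective _ hinj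
    rw [Fintype.card_prod] at h1
    have h2 : 1 < Fintype.card (ZMod ℓ₀) := Fintype.one_lt_card
    nlinarith
  · obtain ⟨Φ, hΦ⟩ := key ℓ hℓ hℓL q hq
    obtain ⟨k, rfl⟩ : ∃ k, q = k + 1 := ⟨q - 1, by omega⟩
    refine subsingleton_of_forall_eq (Φ 0) fun a => ?_
    obtain ⟨b, rfl⟩ := hΦ a
    rw [eq_zero_of_point _ k b]

end Fibre

end EtBcBridgeLib
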