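import Groth.Agent.EtBcBridgeLib.Etale

/-!
# Base change in the derived category is étale local
-/

set_option autoImplicit false
set_option linter.all false
set_option backward.isDefEq.respectTransparency false
set_option backward.isDefEq.respectTransparency.types false
set_option synthInstance.maxHeartbeats 400000
set_option maxHeartbeats 2000000

universe u

open CategoryTheory CategoryTheory.Limits AlgebraicGeometry Opposite

attribute [local instance] HasDerivedCategory.standard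

noncomputable section

namespace EtBcBridgeLib

open EtBcDLib EtBcQLib Groth.Agent.EtShLib

attribute [local instance] EtSliceLib.pullExact pfl_push pfc_pull

theorem hasRpush {A B : Scheme.{u}} (v : A ⟶ B) : DCoh.HasRpushEt A v :=
  Groth.Agent.DerLib.KInjDerived.hasRightDerivedFunctor _ (enough A)

/-- An isomorphism of sheaves is detected on a jointly surjective family of étale schemes. -/
theorem isIso_of_covers {X : Scheme.{u}} {ι : Type u} (U : ι → X.Etale) (hU : EtCoh.Covers U)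
    {F G : EtCoh.Ab X} (φ : F ⟶ G) (h : ∀ i, IsIso ((EtCoh.pull (U i).hom).map φ)) : IsIso φ := by
  refine (isIso_iff_stalks _).2 fun Ω _ _ ξ => ?_
  obtain ⟨i, y, hy⟩ := hU (ξ.base default)
  obtain ⟨u, -⟩ := exists_fib ξ (U i) y hy
  haveI := h i
  haveI : IsIso ((stk (A := AddCommGrpCat.{u + 1}) (u.hom ≫ (U i).hom)).map φ) :=
    (NatIso.isIso_map_iff (stalkPull (U i).hom u.hom AddCommGrpCat.{u + 1}) _).2
      (inferInstanceAs (IsIso ((stk (A := AddCommGrpCat.{u + 1}) u.hom).map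
        ((EtCoh.pull (U i).hom).map φ))))
  exact (congrArg (fun z => IsIso ((stk (A := AddCommGrpCat.{u + 1}) z).map φ)) u.w).mp inferInstance

/-- An isomorphism in the derived category is detected on a jointly surjective family of étale schemes. -/
theorem isIso_of_covers_D {X : Scheme.{u}} {ι : Type u} (U : ι → X.Etale) (hU : EtCoh.Covers U)
    {K L : DCoh.DEt X} (φ : K ⟶ L) (h : ∀ i, IsIso ((EtBC.pullD (U i).hom).map φ)) : IsIso φ := by
  rw [DerivedCategory.isIso_iff]
  intro n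
  refine isIso_of_covers U hU _ fun i => ?_
  haveI := h i
  exact (NatIso.isIso_map_iff (Groth.Agent.DerLib.ExactHomology.homologyIso (EtCoh.pull (U i).hom) n) φ).1
    (inferInstanceAs (IsIso ((DerivedCategory.homologyFunctor (EtCoh.Ab (U i).left) n).map
      ((EtBC.pullD (U i).hom).map φ))))

variable {X S Y T : Scheme.{u}} (f : X ⟶ S) (g : T ⟶ S) (h : Y ⟶ X) (e : Y ⟶ T) (c : IsPullback e h g f)
  [DCoh.HasRpushEt T g] [DCoh.HasRpushEt Y h] [DCoh.HasRpushEt X f]

include c in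
/-- One member of the covering family. -/
theorem local_step (adj : EtBC.pullD f ⊣ DCoh.RpushEt X f) (K : DCoh.DEt T) {U' V' Ti Yi : Scheme.{u}}
    (u : U' ⟶ X) (v : V' ⟶ S) (hu : AlgebraicGeometry.Etale u) (hv' : AlgebraicGeometry.Etale v)
    (a : U' ⟶ V') (ha : a ≫ v = u ≫ f) (gi : Ti ⟶ V') (ti : Ti ⟶ T) (cT : IsPullback ti gi g v)
    (hi : Yi ⟶ U') (ei : Yi ⟶ Ti) (cY : IsPullback ei hi gi a)
    [DCoh.HasRpushEt Ti gi] [DCoh.HasRpushEt Yi hi] [DCoh.HasRpushEt U' a]
    (adji : EtBC.pullD a ⊣ DCoh.RpushEt U' a)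
    (hloc : IsIso (EtBC.bcMap gi a hi ei cY.w adji ((EtBC.pullD ti).obj K))) :
    IsIso ((EtBC.pullD u).map (EtBC.bcMap g f h e c.w adj K)) := by
  haveI : AlgebraicGeometry.Etale u := hu
  haveI : AlgebraicGeometry.Etale v := hv'
  haveI := hasRpush u
  haveI := hasRpush v
  haveI := hasRpush (u ≫ f)
  haveI := hasRpush (a ≫ v)
  have cO : IsPullback (ei ≫ ti) hi g (u ≫ f) := by
    rw [← ha]
    exact cY.paste_horiz cT
  let k : Yi ⟶ Y := c.lift (ei ≫ ti) (hi ≫ u) (by rw [cO.w, Category.assoc])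
  have hk : k ≫ e = ei ≫ ti := c.lift_fst _ _ _
  have c' : IsPullback k hi h u := IsPullback.of_right (by rw [hk]; exact cO) (c.lift_snd _ _ _) c
  haveI hv : IsIso ((EtBC.pullD a).map (EtBC.bcMap g v gi ti cT.w (canAdj v) K)) :=
    haveI := isIso_bcMap_etale g v gi ti cT (canAdj v) K
    inferInstance
  have h1 := (isIso_outer_iff' v g gi ti cT a hi ei cY (u ≫ f) ha
    (ei ≫ ti) rfl cO (canAdj v) adji (canAdj (u ≫ f)) K hloc).2 hv
  exact (isIso_outer_iff' f g h e c u hi k c' (u ≫ f) rfl (ei ≫ ti) hk cO adj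
    (canAdj u) (canAdj (u ≫ f)) K
    (isIso_bcMap_etale h u hi k c' (canAdj u) _)).1 h1


include c in
/-- Being an isomorphism is étale local for the base change morphism. -/
theorem isIso_bcMap_of_local (adj : EtBC.pullD f ⊣ DCoh.RpushEt X f) (K : DCoh.DEt T)
    {ι : Type u} (U : ι → X.Etale) (hU : EtCoh.Covers U) (V : ι → S.Etale)
    (a : ∀ i, (U i).left ⟶ (V i).left) (ha : ∀ i, a i ≫ (V i).hom = (U i).hom ≫ f)
    (Ti Yi : ι → Scheme.{u}) (gi : ∀ i, Ti i ⟶ (V i).left) (ti : ∀ i, Ti i ⟶ T)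
    (cT : ∀ i, IsPullback (ti i) (gi i) g (V i).hom)
    (hi : ∀ i, Yi i ⟶ (U i).left) (ei : ∀ i, Yi i ⟶ Ti i) (cY : ∀ i, IsPullback (ei i) (hi i) (gi i) (a i))
    [∀ i, DCoh.HasRpushEt (Ti i) (gi i)] [∀ i, DCoh.HasRpushEt (Yi i) (hi i)] [∀ i, DCoh.HasRpushEt (U i).left (a i)]
    (adji : ∀ i, EtBC.pullD (a i) ⊣ DCoh.RpushEt (U i).left (a i))
    (hloc : ∀ i, IsIso (EtBC.bcMap (gi i) (a i) (hi i) (ei i) (cY i).w (adji i) ((EtBC.pullD (ti i)).obj K))) :
    IsIso (EtBC.bcMap g f h e c.w adj K) := by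
  refine isIso_of_covers_D U hU _ fun i => ?_
  exact local_step f g h e c adj K (U' := (U i).left) (V' := (V i).left) (U i).hom (V i).hom (U i).prop (V i).prop (a i) (ha i) (gi i) (ti i) (cT i)
    (hi i) (ei i) (cY i) (adji i) (hloc i)

end EtBcBridgeLib
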