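import Groth.Agent.EtBcBridgeLib.Converse
import Groth.Agent.EtBcBridgeLib.Local
import Groth.Agent.EtAcycFibLib.Bc
import Groth.Agent.EtAcycFibLib.Strict
import Groth.Agent.LocAcycBCLib.Main
import Groth.Agent.EtShLib.TorsionOk
import Groth.Agent.S3471

/-!
# Local acyclicity from base change for open immersions
-/

set_option autoImplicit false
set_option linter.all false
set_option backward.isDefEq.respectTransparency false
set_option backward.isDefEq.respectTransparency.types false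
set_option synthInstance.maxHeartbeats 400000
set_option maxHeartbeats 2000000

universe u

open CategoryTheory CategoryTheory.Limits CategoryTheory.Abelian AlgebraicGeometry Opposite
open Groth.Agent.EtShLib EtRpushStalkLib

noncomputable section

namespace EtBcBridgeLib

/-- Base change for open immersions gives local acyclicity. -/
theorem isLocAcyclicN_of_openBC {X Y : Scheme.{u}} {g : X ⟶ Y} {L : Set ℕ} (hL : ∃ ℓ ∈ L, ℓ.Prime) {n : ℕ}
    (H : OpenBC g L n) : EtAcyc.IsLocAcyclicN g L n := by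
  refine (Groth.Agent.S3471.result g L hL n).2 ?_
  intro x RY RX _ _ _ _ _ _ _ _ _ _ _ _ hc y Ω _ _ _ _
  obtain ⟨U, hU, hx⟩ : ∃ U : Y.Opens, IsAffineOpen U ∧ g.base x ∈ U := by
    obtain ⟨_, ⟨U, hU, rfl⟩, hx, -⟩ := (Y.isBasis_affineOpens).exists_subset_of_mem_open
      (Set.mem_univ (g.base x)) isOpen_univ
    exact ⟨U, hU, hx⟩
  let x' : (g ⁻¹ᵁ U).toScheme := ⟨x, hx⟩
  haveI : IsAffine U.toScheme := hU
  let α := morphismRestrictStalkMap g U x'
  let eY : U.toScheme.presheaf.stalk ((g ∣_ U).base x') ≃+* Y.presheaf.stalk (g.base x) :=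
    (Arrow.leftFunc.mapIso α).commRingCatIsoToRingEquiv
  let eX : (g ⁻¹ᵁ U).toScheme.presheaf.stalk x' ≃+* X.presheaf.stalk x :=
    (Arrow.rightFunc.mapIso α).commRingCatIsoToRingEquiv
  obtain ⟨aY, lY, sY, haY⟩ := LocAcycBCLib.exists_sh_of_equiv eY RY
  obtain ⟨aX, lX, sX, haX⟩ := LocAcycBCLib.exists_sh_of_equiv eX RX
  letI := aY
  letI := aX
  haveI := lY
  haveI := lX
  haveI := sY
  haveI := sX
  haveI : IsSepClosed (IsLocalRing.ResidueField RY) :=
    (Hensel.IsStrictHenselization.isSepClosure (R := Y.presheaf.stalk (g.base x)) (S := RY)).sep_closed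
  obtain ⟨C⟩ := exists_chart ((g ∣_ U).base x') RY
  refine acyclicScheme_fibre (g := g ∣_ U)
    (H.restrict U.ι (g ⁻¹ᵁ U).ι (g ∣_ U) (isPullback_morphismRestrict g U).flip) x' RY RX (algebraMap RY RX) ?_ C y Ω hL
  refine RingHom.ext fun r => ?_
  rw [RingHom.comp_apply, RingHom.comp_apply, haY, haX]
  refine (RingHom.congr_fun hc (eY r)).trans ?_
  exact congrArg (algebraMap (X.presheaf.stalk x) RX) (congrArg (fun t => (CommRingCat.Hom.hom t) r) α.hom.w)

/-- A torsion sheaf for no primes is zero. -/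
theorem isZero_of_isLTorsion {X : Scheme.{u}} {L : Set ℕ} (hL : ¬ ∃ ℓ ∈ L, ℓ.Prime) {F : EtCoh.Ab X}
    (hF : EtAcyc.IsLTorsion L F) : IsZero F := by
  rw [IsZero.iff_id_eq_zero]
  apply Sheaf.hom_ext
  ext U s
  refine eq_of_germ F _ _ fun Ω _ _ ξ u => ?_
  obtain ⟨m, hm, hp⟩ := (isLTorsion_iff_torsionBy L F).1 hF Ω ξ (germ (A := AddCommGrpCat.{u + 1}) ξ F _ u s)
  have h1 : m = 1 := by
    by_contra h
    obtain ⟨p, hpp, hpd⟩ := Nat.exists_prime_and_dvd h
    exact hL ⟨p, hm.2 p hpp hpd, hpp⟩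
  subst h1
  rw [one_smul] at hp
  exact hp.trans (map_zero _).symm

/-- Cohomology of a zero sheaf vanishes. -/
theorem subsingleton_H_of_isZero {X : Scheme.{u}} {F : EtCoh.Ab X} (hF : IsZero F) (q : ℕ) :
    Subsingleton (EtCoh.H X F q) :=
  subsingleton_of_forall_eq 0 fun x => by
    rw [← Ext.comp_mk₀_id x, hF.eq_of_src (𝟙 F) 0, Ext.mk₀_zero, Ext.comp_zero]

/-- Local acyclicity for no primes holds. -/
theorem isLocAcyclicN_of_no_prime {X Y : Scheme.{u}} (g : X ⟶ Y) {L : Set ℕ} (hL : ¬ ∃ ℓ ∈ L, ℓ.Prime) (n : ℕ) :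
    EtAcyc.IsLocAcyclicN g L n := by
  intro x RY RX _ _ _ _ _ _ _ _ _ _ _ _ _ V F hF _
  have h0 := isZero_of_isLTorsion hL hF
  haveI : (EtCoh.pull (EtAcyc.prj (Spec.map (CommRingCat.ofHom (algebraMap RY RX))) V)).Additive :=
    (EtCoh.pullPushAdj _).left_adjoint_additive
  have h1 := (EtCoh.pull (EtAcyc.prj (Spec.map (CommRingCat.ofHom (algebraMap RY RX))) V)).map_isZero h0
  exact ⟨fun q _ => ⟨fun a b _ => (subsingleton_H_of_isZero h0 q).elim a b,
      fun b => ⟨0, (subsingleton_H_of_isZero h1 q).elim _ _⟩⟩,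
    fun a b _ => (subsingleton_H_of_isZero h0 _).elim a b⟩

/-- Base change holds trivially for zero sheaves. -/
theorem isIso_bcQ_of_isZero {X S X' S' : Scheme.{u}} (f : X ⟶ S) (g : S' ⟶ S) (f' : X' ⟶ S') (g' : X' ⟶ X)
    (w : g' ≫ f = f' ≫ g) {F : EtCoh.Ab X} (hF : IsZero F) (q : ℕ) : IsIso (EtBC.bcQ f g f' g' w q F) := by
  haveI : (EtCoh.pull g').Additive := (EtCoh.pullPushAdj _).left_adjoint_additive
  haveI : (EtCoh.pull g).Additive := (EtCoh.pullPushAdj _).left_adjoint_additive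
  have h1 := (EtCoh.pull g).map_isZero ((EtCoh.Rpush f q).map_isZero hF)
  have h2 := (EtCoh.Rpush f' q).map_isZero ((EtCoh.pull g').map_isZero hF)
  exact ⟨0, h1.eq_of_src _ _, h2.eq_of_src _ _⟩

end EtBcBridgeLib
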