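import Groth.Agent.EtBcBridgeLib.Tower
import Groth.Agent.EtBcQLib.Etale

/-!
# Base change along étale morphisms in the derived category
-/

set_option autoImplicit false
set_option linter.all false
set_option backward.isDefEq.respectTransparency false
set_option backward.isDefEq.respectTransparency.types false
set_option synthInstance.maxHeartbeats 400000
set_option maxHeartbeats 2000000

universe u

open CategoryTheory CategoryTheory.Limits AlgebraicGeometry Opposite

attribute [local instance] HasDerivedCategory.standard

noncomputable section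

namespace EtBcBridgeLib

open EtBcDLib EtBcQLib Groth.Agent.EtShLib

attribute [local instance] EtSliceLib.pullExact pfl_push pfc_pull

/-- A functor with an exact left adjoint preserves K-injective complexes. -/
theorem isKInjective_map_of_adj {A B : Type*} [Category A] [Abelian A] [Category B] [Abelian B] {L : A ⥤ B}
    {R : B ⥤ A} (adj : L ⊣ R) [L.Additive] [R.Additive] [L.PreservesHomology] (I : CochainComplex B ℤ)
    [I.IsKInjective] :
    CochainComplex.IsKInjective ((R.mapHomologicalComplex (ComplexShape.up ℤ)).obj I) where
  nonempty_homotopy_zero {K} φ hK := by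
    let qA := HomotopyCategory.quotient A (ComplexShape.up ℤ)
    let qB := HomotopyCategory.quotient B (ComplexShape.up ℤ)
    refine ⟨HomotopyCategory.homotopyOfEq _ _ ?_⟩
    let adjK := Groth.Agent.DerLib.KInjDerived.mapHomotopyCategoryAdj adj (ComplexShape.up ℤ)
    refine (adjK.homEquiv (qA.obj K) (qB.obj I)).symm.injective ?_
    obtain ⟨ψ, hψ⟩ := (HomotopyCategory.quotient B (ComplexShape.up ℤ)).map_surjective
      ((adjK.homEquiv (qA.obj K) (qB.obj I)).symm (qA.map φ))
    have hLK : HomologicalComplex.Acyclic ((L.mapHomologicalComplex (ComplexShape.up ℤ)).obj K) := fun n =>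
      (hK n).map L
    obtain ⟨H⟩ := CochainComplex.IsKInjective.nonempty_homotopy_zero ψ hLK
    refine hψ.symm.trans ?_
    refine (HomotopyCategory.eq_of_homotopy _ _ H).trans ?_
    rw [Functor.map_zero, Functor.map_zero, Adjunction.homEquiv_counit]
    simp

/-- Inverse image along an étale morphism preserves K-injective complexes. -/
theorem isKInjective_pull_etale {A B : Scheme.{u}} (v : A ⟶ B) [AlgebraicGeometry.Etale v]
    (I : CochainComplex (EtCoh.Ab B) ℤ) [I.IsKInjective] :
    CochainComplex.IsKInjective (((EtCoh.pull v).mapHomologicalComplex (ComplexShape.up ℤ)).obj I) := by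
  haveI := jCont v
  haveI : PreservesColimitsOfSize.{0, 0} (EtShriek.extZero v) := (EtShriek.extZeroAdj v).leftAdjoint_preservesColimits
  haveI : PreservesFiniteColimits (EtShriek.extZero v) := PreservesColimitsOfSize.preservesFiniteColimits _
  haveI : (EtShriek.extZero v).Additive := (EtShriek.extZeroAdj v).left_adjoint_additive
  haveI : (EtShriek.restrAlong v).Additive := (EtShriek.extZeroAdj v).right_adjoint_additive
  haveI : (EtShriek.extZero v).PreservesMonomorphisms := ⟨fun α _ => mono_extZero_map v α⟩
  haveI : (EtShriek.extZero v).PreservesHomology := by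
    have hep : ∀ S : ShortComplex (EtCoh.Ab A), S.ShortExact →
        (S.map (EtShriek.extZero v)).Exact ∧ Epi ((EtShriek.extZero v).map S.g) :=
      (List.TFAE.out (Functor.preservesFiniteColimits_tfae (EtShriek.extZero v)) (3 : ℕ) (0 : ℕ)
        (a := PreservesFiniteColimits (EtShriek.extZero v))
        (b := ∀ S : ShortComplex (EtCoh.Ab A), S.ShortExact →
          (S.map (EtShriek.extZero v)).Exact ∧ Epi ((EtShriek.extZero v).map S.g)) rfl rfl).1 inferInstance
    haveI : PreservesFiniteLimits (EtShriek.extZero v) :=
      (Functor.preservesFiniteLimits_iff_forall_exact_map_and_mono _).2 fun S hS =>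
        ⟨(hep S hS).1,
          haveI := hS.mono_f
          inferInstance⟩
    exact Functor.preservesHomologyOfExact _
  haveI := isKInjective_map_of_adj (EtShriek.extZeroAdj v) I
  exact CochainComplex.isKInjective_of_iso
    ((NatIso.mapHomologicalComplex (asIso (restrTheta v)) (ComplexShape.up ℤ)).app I).symm

variable {V S T' T : Scheme.{u}} (g : T ⟶ S) (v : V ⟶ S) [AlgebraicGeometry.Etale v] (g' : T' ⟶ V) (t : T' ⟶ T)
  (c : IsPullback t g' g v) [DCoh.HasRpushEt T g] [DCoh.HasRpushEt T' g'] [DCoh.HasRpushEt V v]

include c in
/-- Base change along an étale morphism is an isomorphism in the derived category. -/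
theorem isIso_bcMap_etale (adj : EtBC.pullD v ⊣ DCoh.RpushEt V v) (K : DCoh.DEt T) :
    IsIso (EtBC.bcMap g v g' t c.w adj K) := by
  haveI : AlgebraicGeometry.Etale t := MorphismProperty.of_isPullback c.flip ‹AlgebraicGeometry.Etale v›
  obtain ⟨I, hI, ⟨a⟩⟩ := exists_kInjective K
  haveI := hI
  rw [← isIso_bcMap_congr g v g' t c.w adj a, isIso_bcMap_iff]
  haveI : ∀ n, IsIso ((kappa g v g' t c.w I).f n) := fun n => isIso_bc0_etale g v g' t c (I.X n)
  haveI : IsIso (kappa g v g' t c.w I) := HomologicalComplex.Hom.isIso_of_components _
  haveI := isKInjective_pull_etale t I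
  haveI : IsIso ((uR g').app (pullH t I)) :=
    Groth.Agent.DerLib.KInjDerived.isIso_app (DCoh.RpushEt T' g') _ (enough T')
      (((EtCoh.pull t).mapHomologicalComplex (ComplexShape.up ℤ)).obj I)
  unfold midMap
  infer_instance

end EtBcBridgeLib
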