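import Groth.Agent.EtBcQLib.Et
import Mathlib.CategoryTheory.Limits.Preserves.Shapes.Kernels

/-!
# Homology of complexes, exact functors, and transposition under an adjunction
-/

set_option autoImplicit false
set_option linter.all false
set_option backward.isDefEq.respectTransparency false
set_option backward.isDefEq.respectTransparency.types false
set_option synthInstance.maxHeartbeats 400000
set_option maxHeartbeats 1000000

universe v₁ v₂ u₁ u₂

open CategoryTheory CategoryTheory.Limits HomologicalComplex

noncomputable section

namespace EtBcBridgeLib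

variable {B : Type u₁} [Category.{v₁} B] [Abelian B] {C : Type u₂} [Category.{v₂} C] [Abelian C]
  {G : B ⥤ C} [G.Additive] [PreservesFiniteLimits G] {ι : Type*} {c : ComplexShape ι}

theorem isIso_cyclesComparison (K : HomologicalComplex B c) (i : ι) : IsIso (RDer.cyclesComparison G K i) := by
  let hl := KernelFork.mapIsLimit _ (K.cyclesIsKernel i (c.next i) rfl) G
  let e := (((G.mapHomologicalComplex c).obj K).cyclesIsKernel i _ rfl).conePointUniqueUpToIso hl
  have : RDer.cyclesComparison G K i = e.hom := by
    apply Fork.IsLimit.hom_ext hl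
    exact (hl.fac _ WalkingParallelPair.zero).trans
      (IsLimit.conePointUniqueUpToIso_hom_comp _ hl WalkingParallelPair.zero).symm
  rw [this]
  infer_instance

variable [PreservesFiniteColimits G]

/-- Exact functors commute with homology. -/
theorem isIso_homologyComparison (K : HomologicalComplex B c) (i : ι) : IsIso (RDer.homologyComparison G K i) := by
  let L := (G.mapHomologicalComplex c).obj K
  haveI := isIso_cyclesComparison (G := G) K i
  let hc := CokernelCofork.mapIsColimit _ (K.homologyIsCokernel (c.prev i) i rfl) G
  have hπ : CategoryTheory.IsIso (RDer.cyclesComparison G K i) := inferInstance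
  let d : G.obj (K.homology i) ⟶ L.homology i :=
    hc.desc (CokernelCofork.ofπ (inv (RDer.cyclesComparison G K i) ≫ L.homologyπ i) (by
      rw [← RDer.toCycles_cyclesComparison G K i, Category.assoc, IsIso.hom_inv_id_assoc,
        toCycles_comp_homologyπ]))
  have hd : G.map (K.homologyπ i) ≫ d = inv (RDer.cyclesComparison G K i) ≫ L.homologyπ i :=
    hc.fac _ WalkingParallelPair.one
  refine ⟨d, ?_, ?_⟩
  · rw [← cancel_epi (L.homologyπ i), RDer.homologyπ_homologyComparison_assoc, hd, IsIso.hom_inv_id_assoc,
      Category.comp_id]
  · apply Cofork.IsColimit.hom_ext hc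
    show G.map (K.homologyπ i) ≫ d ≫ _ = G.map (K.homologyπ i) ≫ 𝟙 _
    rw [reassoc_of% hd, RDer.homologyπ_homologyComparison, IsIso.inv_hom_id_assoc, Category.comp_id]

omit [PreservesFiniteColimits G] in
/-- Transposition in homology. -/
theorem homology_transpose {Ψ : C ⥤ B} [Ψ.Additive] [PreservesFiniteLimits Ψ] (adj : G ⊣ Ψ)
    {K : HomologicalComplex B c} {L : HomologicalComplex C c} (χ : K ⟶ (Ψ.mapHomologicalComplex c).obj L)
    (ψ : (G.mapHomologicalComplex c).obj K ⟶ L) (hψ : ∀ i, ψ.f i = (adj.homEquiv _ _).symm (χ.f i)) (q : ι) :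
    RDer.homologyComparison G K q ≫
        (adj.homEquiv _ _).symm (homologyMap χ q ≫ RDer.homologyComparison Ψ L q) = homologyMap ψ q := by
  have hZ : RDer.cyclesComparison G K q ≫ (adj.homEquiv _ _).symm (cyclesMap χ q ≫ RDer.cyclesComparison Ψ L q) =
      cyclesMap ψ q := by
    rw [← cancel_mono (L.iCycles q), Category.assoc, cyclesMap_i, ← Adjunction.homEquiv_naturality_right_symm,
      Category.assoc, RDer.cyclesComparison_i, cyclesMap_i, Adjunction.homEquiv_naturality_left_symm, hψ,
      RDer.cyclesComparison_i_assoc]
  rw [← cancel_epi (((G.mapHomologicalComplex c).obj K).homologyπ q), RDer.homologyπ_homologyComparison_assoc,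
    homologyπ_naturality, ← Adjunction.homEquiv_naturality_left_symm, homologyπ_naturality_assoc,
    RDer.homologyπ_homologyComparison, ← Category.assoc (cyclesMap χ q), Adjunction.homEquiv_naturality_right_symm,
    reassoc_of% hZ]

end EtBcBridgeLib
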