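import Groth.Agent.DivSeqLib.Components
import Groth.Agent.EtAcycLib.Comp
import Groth.Agent.CovDevLib.Basis

/-!
# Extending cohomology classes from open and closed pieces
-/

set_option autoImplicit false
set_option linter.all false
set_option backward.isDefEq.respectTransparency false
set_option backward.isDefEq.respectTransparency.types false
set_option synthInstance.maxHeartbeats 400000
set_option maxHeartbeats 2000000

universe u

open CategoryTheory CategoryTheory.Limits CategoryTheory.Abelian AlgebraicGeometry Opposite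
open Groth.Agent.EtShLib EtSliceLib DivSeqLib

noncomputable section

namespace EtBcBridgeLib

attribute [local instance] EtSliceLib.pullExact

/-- Classes on the members of a finite open partition glue. -/
theorem exists_extend {X : Scheme.{u}} {ι : Type*} [Fintype ι] (U : ι → X.Opens)
    (hcov : ∀ x : X, ∃ i, x ∈ U i) (hdisj : ∀ i j, i ≠ j → Disjoint (U i : Set X) (U j : Set X))
    (F : EtCoh.Ab X) (n : ℕ) (y : ∀ i, EtCoh.H (U i).toScheme ((EtCoh.pull (U i).ι).obj F) n) :
    ∃ x : EtCoh.H X F n, ∀ i, EtCore.Hpull (U i).ι F n x = y i := by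
  classical
  let W : ι → X.Etale := fun i => openObj (U i)
  let t : ∀ i, ∀ j, ToType ((free (W i)).obj.obj (op (W j))) := fun i j =>
    if hij : i = j then hij ▸ gen (W i) else 0
  choose g hg using fun i => exists_glue_family U hcov hdisj (free (W i)) (t i)
  let p : ∀ i, EtCoh.const X ℤ ⟶ free (W i) := fun i =>
    ((EtCore.constAdj X).homEquiv _ _).symm (intHom (g i))
  have hp : ∀ i, (p i).hom.app (op (EtCoh.top X)) (DescSecLib.etOneSec X ⟨1⟩) = g i := fun i =>
    (gsec_map_symm _).trans (intHom_one _)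
  have hWp : ∀ j i, (toConst (W j) ≫ p i).hom.app (op (W j)) (gen (W j)) = t i j := fun j i => by
    show (p i).hom.app (op (W j)) ((toConst (W j)).hom.app (op (W j)) (gen (W j))) = _
    rw [map_toConst]
    refine (NatTrans.naturality_apply (p i).hom _ _).trans ?_
    rw [hp]
    exact hg i j
  choose z hz using fun i => (psi_bijective (W i) n F).2 (y i)
  refine ⟨∑ i, (Ext.mk₀ (p i)).comp (z i) (zero_add n), fun j => ?_⟩
  rw [map_sum]
  refine (Finset.sum_eq_single j (fun i _ hij => ?_) fun h => absurd (Finset.mem_univ j) h).trans ?_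
  · haveI : PreservesFiniteLimits (EtCoh.pull (W j).hom) := inferInstanceAs (PreservesFiniteLimits (EtCoh.pull (U j).ι))
    refine (Hpull_eq_psi (W j) F n _).trans ?_
    have h0 : toConst (W j) ≫ p i = 0 := free_hom_ext (W j) (by
      rw [hWp]
      simp only [t, dif_neg hij]
      rfl)
    rw [← Ext.comp_assoc_of_second_deg_zero, Ext.mk₀_comp_mk₀, h0, Ext.mk₀_zero, Ext.zero_comp, map_zero]
  · haveI : PreservesFiniteLimits (EtCoh.pull (W j).hom) := inferInstanceAs (PreservesFiniteLimits (EtCoh.pull (U j).ι))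
    refine (Hpull_eq_psi (W j) F n _).trans ?_
    have h1 : toConst (W j) ≫ p j = 𝟙 _ := free_hom_ext (W j) (by
      rw [hWp]
      simp only [t, dif_pos]
      rfl)
    rw [← Ext.comp_assoc_of_second_deg_zero, Ext.mk₀_comp_mk₀, h1, Ext.mk₀_id_comp]
    exact hz j

/-- A class on an open and closed piece extends by zero. -/
theorem exists_extend_clopen {S : Scheme.{u}} (F : EtCoh.Ab S) (n : ℕ) {Q P : Over S} (φ : Q ⟶ P)
    [IsOpenImmersion φ.left] (hcl : IsClosed (Set.range φ.left.base))
    (y : EtCoh.H Q.left (DescSecLib.etSys.M F Q) n) :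
    ∃ x : EtCoh.H P.left (DescSecLib.etSys.M F P) n, DescSecLib.etSys.Hmap F n φ x = y ∧
      ∀ {R : Over S} (ψ : R ⟶ P), Disjoint (Set.range ψ.left.base) (Set.range φ.left.base) →
        DescSecLib.etSys.Hmap F n ψ x = 0 := by
  let U : Bool → P.left.Opens := fun b => if b then φ.left.opensRange else ⟨(Set.range φ.left.base)ᶜ, hcl.isOpen_compl⟩
  have hcov : ∀ p : P.left, ∃ b, p ∈ U b := fun p => by
    by_cases hp : p ∈ Set.range φ.left.base
    · exact ⟨true, hp⟩
    · exact ⟨false, hp⟩
  have hdisj : ∀ b b', b ≠ b' → Disjoint (U b : Set P.left) (U b' : Set P.left) := by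
    intro b b' hb
    cases b <;> cases b' <;> first | exact absurd rfl hb | skip
    · exact disjoint_compl_left
    · exact disjoint_compl_right
  let M := DescSecLib.etSys.M F P
  haveI := EtAcycLib.isIso_theta F φ
  let c := IsOpenImmersion.isoOfRangeEq φ.left (U true).ι (Subtype.range_coe).symm
  have hc : c.hom ≫ (U true).ι = φ.left := IsOpenImmersion.isoOfRangeEq_hom_fac _ _ _
  obtain ⟨χ, hχ, eχ⟩ := CovDevLib.Hpull_iso_comp c.hom (U true).ι φ.left hc M n
  obtain ⟨y1, hy1⟩ := (EtAcycLib.bijective_mk₀_iso_postcomp (asIso (DescSecLib.etSys.θ F φ)) n).2 y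
  obtain ⟨y2, hy2⟩ := hχ.2 y1
  obtain ⟨x, hx⟩ := exists_extend U hcov hdisj M n fun b => match b with
    | true => y2
    | false => 0
  refine ⟨x, ?_, fun {R} ψ hψ => ?_⟩
  · rw [EtAcycLib.hmap_eq_Hpull]
    refine (congrArg (fun z => Ext.comp z _ (add_zero n)) ?_).trans hy1
    refine (congrFun eχ x).trans ?_
    show χ _ = y1
    rw [hx true]
    exact hy2
  · rw [EtAcycLib.hmap_eq_Hpull]
    suffices h0 : EtCore.Hpull ψ.left M n x = 0 by rw [h0, Ext.zero_comp]
    have hr : Set.range ψ.left.base ⊆ Set.range (U false).ι.base := by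
      rw [show Set.range (U false).ι.base = (Set.range φ.left.base)ᶜ from Subtype.range_coe]
      exact Set.disjoint_left.1 hψ
    let l := IsOpenImmersion.lift (U false).ι ψ.left hr
    have hl : l ≫ (U false).ι = ψ.left := IsOpenImmersion.lift_fac _ _ _
    rw [← CovDevLib.Hpull_comp l (U false).ι ψ.left hl M n x, hx false, map_zero, Ext.zero_comp]

end EtBcBridgeLib
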