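import Groth.Agent.EtBcBridgeLib.Main

/-!
# The base change morphism of derived categories on an arbitrary complex
-/

set_option autoImplicit false
set_option linter.all false
set_option backward.isDefEq.respectTransparency false
set_option backward.isDefEq.respectTransparency.types false
set_option synthInstance.maxHeartbeats 400000
set_option maxHeartbeats 2000000

universe u

open CategoryTheory CategoryTheory.Limits AlgebraicGeometry Opposite

attribute [local instance] HasDerivedCategory.standard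

noncomputable section

namespace EtBcBridgeLib

open EtBcDLib

attribute [local instance] EtSliceLib.pullExact pfl_push pfc_pull

variable {X S X' S' : Scheme.{u}} (f : X ⟶ S) (g : S' ⟶ S) (f' : X' ⟶ S') (g' : X' ⟶ X)
  (w : g' ≫ f = f' ≫ g) [DCoh.HasRpushEt X f] [DCoh.HasRpushEt X' f'] [DCoh.HasRpushEt S' g]

/-- The localisation of a complex. -/
abbrev qh {A : Scheme.{u}} (I : CochainComplex (EtCoh.Ab A) ℤ) : DCoh.DEt A :=
  DerivedCategory.Qh.obj ((HomotopyCategory.quotient (EtCoh.Ab A) (ComplexShape.up ℤ)).obj I)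

/-- The inverse image of a complex up to homotopy. -/
abbrev pullH {A B : Scheme.{u}} (h : A ⟶ B) (I : CochainComplex (EtCoh.Ab B) ℤ) :=
  ((EtCoh.pull h).mapHomotopyCategory (ComplexShape.up ℤ)).obj
    ((HomotopyCategory.quotient (EtCoh.Ab B) (ComplexShape.up ℤ)).obj I)

/-- Base change in degree zero on a complex, followed by the unit of the derived direct image. -/
def midMap (I : CochainComplex (EtCoh.Ab X) ℤ) :
    DerivedCategory.Qh.obj ((HomotopyCategory.quotient (EtCoh.Ab S') (ComplexShape.up ℤ)).obj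
        (((EtCoh.pull g).mapHomologicalComplex _).obj (((EtCoh.push f).mapHomologicalComplex _).obj I))) ⟶
      (DCoh.RpushEt X' f').obj (DerivedCategory.Qh.obj (pullH g' I)) :=
  DerivedCategory.Qh.map ((HomotopyCategory.quotient (EtCoh.Ab S') (ComplexShape.up ℤ)).map
      (kappa f g f' g' w I)) ≫ (uR f').app (pullH g' I)

/-- The base change morphism after the unit, on any complex, for the canonical adjunction. -/
theorem unit_bcMap (I : CochainComplex (EtCoh.Ab X) ℤ) :
    (EtBC.pullD g).map ((uR f).app ((HomotopyCategory.quotient (EtCoh.Ab X) (ComplexShape.up ℤ)).obj I)) ≫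
          EtBC.bcMap f g f' g' w (canAdj g) (qh I) =
      (EtCoh.pull g).mapDerivedCategoryFactorsh.hom.app (((EtCoh.push f).mapHomotopyCategory (ComplexShape.up ℤ)).obj
          ((HomotopyCategory.quotient (EtCoh.Ab X) (ComplexShape.up ℤ)).obj I)) ≫
        midMap f g f' g' w I ≫ (DCoh.RpushEt X' f').map ((EtCoh.pull g').mapDerivedCategoryFactorsh.inv.app
              ((HomotopyCategory.quotient (EtCoh.Ab X) (ComplexShape.up ℤ)).obj I)) := by
  haveI : PreservesFiniteColimits (EtCoh.pull g) := EtCore.pull_preservesFiniteColimits g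
  haveI : PreservesFiniteColimits (EtCoh.pull g') := EtCore.pull_preservesFiniteColimits g'
  let qI := (HomotopyCategory.quotient (EtCoh.Ab X) (ComplexShape.up ℤ)).obj I
  let uf := (DCoh.pushEtKh X f).totalRightDerivedUnit DerivedCategory.Qh
    (HomotopyCategory.quasiIso (EtCoh.Ab X) (ComplexShape.up ℤ))
  let uf' := (DCoh.pushEtKh X' f').totalRightDerivedUnit DerivedCategory.Qh
    (HomotopyCategory.quasiIso (EtCoh.Ab X') (ComplexShape.up ℤ))
  let ug := (DCoh.pushEtKh S' g).totalRightDerivedUnit DerivedCategory.Qh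
    (HomotopyCategory.quasiIso (EtCoh.Ab S') (ComplexShape.up ℤ))
  let B := ((EtCoh.pull g').mapHomotopyCategory (ComplexShape.up ℤ)).obj qI
  let A := ((EtCoh.push f').mapHomotopyCategory (ComplexShape.up ℤ)).obj B
  let T : DerivedCategory.Qh.obj A ⟶ (DCoh.RpushEt X' f').obj ((EtBC.pullD g').obj (qh I)) :=
    uf'.app B ≫ (DCoh.RpushEt X' f').map ((EtCoh.pull g').mapDerivedCategoryFactorsh.inv.app qI)
  let al := (EtCoh.pull g).mapDerivedCategoryFactorsh.hom
  have hd : uf.app qI ≫ (EtBC.bcAdj f g f' g' w).app (qh I) = (EtBC.bcUnit f g f' g' w).app qI :=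
    Functor.rightDerived_fac_app _ uf (HomotopyCategory.quasiIso (EtCoh.Ab X) (ComplexShape.up ℤ)) _
      (EtBC.bcUnit f g f' g' w) qI
  have hu : (EtBC.bcUnit f g f' g' w).app qI =
      (DerivedCategory.Qh.map ((EtBC.pushToPushPullH f g f' g' w).app qI) ≫ ug.app A) ≫
        (DCoh.RpushEt S' g).map T := by
    simp [EtBC.bcUnit, T, ug, uf', A, B]
  have hε : (EtBC.pullD g).map (ug.app A) ≫ (canAdj g).counit.app (DerivedCategory.Qh.obj A) =
      al.app (((EtCoh.push g).mapHomotopyCategory (ComplexShape.up ℤ)).obj A) ≫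
        DerivedCategory.Qh.map
          ((Groth.Agent.DerLib.KInjDerived.mapHomotopyCategoryAdj (EtCoh.pullPushAdj g)
            (ComplexShape.up ℤ)).counit.app A) :=
    haveI := Groth.Agent.DerLib.KInjDerived.isRightDerived_comp (G := EtCoh.pull g) (DCoh.RpushEt S' g) ug (enough S')
    (Groth.Agent.DerLib.KInjDerived.mapHomotopyCategoryAdj (EtCoh.pullPushAdj g)
      (ComplexShape.up ℤ)).derivedε_fac_app (HomotopyCategory.quasiIso (EtCoh.Ab S') (ComplexShape.up ℤ))
      al ug A
  dsimp only [EtBC.bcMap, midMap]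
  refine (Adjunction.homEquiv_naturality_left_symm _ _ _).symm.trans ?_
  erw [hd, hu]
  erw [Adjunction.homEquiv_naturality_right_symm, Adjunction.homEquiv_counit, Functor.map_comp]
  rw [Category.assoc, Category.assoc]
  erw [reassoc_of% hε]
  erw [reassoc_of% (al.naturality ((EtBC.pushToPushPullH f g f' g' w).app qI))]
  refine congrArg (al.app _ ≫ ·) ?_
  erw [← Functor.map_comp_assoc, kappa_eq f g f' g' w I]
  exact (Category.assoc _ _ _).symm

/-- Invertibility of the base change morphism does not depend on the adjunction. -/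
theorem isIso_bcMap_adj (adj adj' : EtBC.pullD g ⊣ DCoh.RpushEt S' g) (K : DCoh.DEt X) :
    IsIso (EtBC.bcMap f g f' g' w adj K) ↔ IsIso (EtBC.bcMap f g f' g' w adj' K) := by
  obtain ⟨e, he⟩ := exists_symm_eq adj adj' ((DCoh.RpushEt X f).obj K)
  dsimp only [EtBC.bcMap]
  rw [he]
  exact isIso_comp_left_iff e.hom _

/-- On a K-injective complex the base change morphism is invertible with the middle morphism. -/
theorem isIso_bcMap_iff (adj : EtBC.pullD g ⊣ DCoh.RpushEt S' g) (I : CochainComplex (EtCoh.Ab X) ℤ)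
    [I.IsKInjective] :
    IsIso (EtBC.bcMap f g f' g' w adj (qh I)) ↔ IsIso (midMap f g f' g' w I) := by
  rw [isIso_bcMap_adj f g f' g' w adj (canAdj g)]
  have h := unit_bcMap f g f' g' w I
  let e := (EtCoh.pull g).mapDerivedCategoryFactorsh.hom.app (((EtCoh.push f).mapHomotopyCategory (ComplexShape.up ℤ)).obj
          ((HomotopyCategory.quotient (EtCoh.Ab X) (ComplexShape.up ℤ)).obj I))
  haveI : IsIso ((uR f).app ((HomotopyCategory.quotient (EtCoh.Ab X) (ComplexShape.up ℤ)).obj I)) :=
    Groth.Agent.DerLib.KInjDerived.isIso_app (DCoh.RpushEt X f) _ (enough X) I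
  constructor
  · intro hi
    haveI : IsIso (e ≫ midMap f g f' g' w I ≫ (DCoh.RpushEt X' f').map
        ((EtCoh.pull g').mapDerivedCategoryFactorsh.inv.app
          ((HomotopyCategory.quotient (EtCoh.Ab X) (ComplexShape.up ℤ)).obj I))) := h ▸ inferInstance
    haveI := IsIso.of_isIso_comp_left e (midMap f g f' g' w I ≫ (DCoh.RpushEt X' f').map
        ((EtCoh.pull g').mapDerivedCategoryFactorsh.inv.app
          ((HomotopyCategory.quotient (EtCoh.Ab X) (ComplexShape.up ℤ)).obj I)))
    exact IsIso.of_isIso_comp_right (midMap f g f' g' w I) ((DCoh.RpushEt X' f').map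
        ((EtCoh.pull g').mapDerivedCategoryFactorsh.inv.app
          ((HomotopyCategory.quotient (EtCoh.Ab X) (ComplexShape.up ℤ)).obj I)))
  · intro hi
    haveI : IsIso ((EtBC.pullD g).map ((uR f).app ((HomotopyCategory.quotient (EtCoh.Ab X) (ComplexShape.up ℤ)).obj I)) ≫
        EtBC.bcMap f g f' g' w (canAdj g) (qh I)) := h ▸ inferInstance
    exact IsIso.of_isIso_comp_left ((EtBC.pullD g).map ((uR f).app _)) _

/-- Invertibility of the base change morphism is invariant under isomorphism. -/
theorem isIso_bcMap_congr (adj : EtBC.pullD g ⊣ DCoh.RpushEt S' g) {K K' : DCoh.DEt X} (a : K ≅ K') :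
    IsIso (EtBC.bcMap f g f' g' w adj K) ↔ IsIso (EtBC.bcMap f g f' g' w adj K') :=
  (MorphismProperty.isomorphisms _).arrow_mk_iso_iff
    (Arrow.isoMk ((EtBC.pullD g).mapIso ((DCoh.RpushEt X f).mapIso a))
      ((DCoh.RpushEt X' f').mapIso ((EtBC.pullD g').mapIso a)) (bcMap_natural f g f' g' w adj a.hom))

/-- On a K-injective complex, the canonical base change morphism is the middle morphism up to isomorphisms. -/
theorem nonempty_bcMap_midMap (I : CochainComplex (EtCoh.Ab X) ℤ) [I.IsKInjective] :
    Nonempty (Arrow.mk (EtBC.bcMap f g f' g' w (canAdj g) (qh I)) ≅ Arrow.mk (midMap f g f' g' w I)) := by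
  haveI : IsIso ((uR f).app ((HomotopyCategory.quotient (EtCoh.Ab X) (ComplexShape.up ℤ)).obj I)) :=
    Groth.Agent.DerLib.KInjDerived.isIso_app (DCoh.RpushEt X f) _ (enough X) I
  let al := (EtCoh.pull g).mapDerivedCategoryFactorsh.app (((EtCoh.push f).mapHomotopyCategory (ComplexShape.up ℤ)).obj
    ((HomotopyCategory.quotient (EtCoh.Ab X) (ComplexShape.up ℤ)).obj I))
  let r := (DCoh.RpushEt X' f').mapIso ((EtCoh.pull g').mapDerivedCategoryFactorsh.app
    ((HomotopyCategory.quotient (EtCoh.Ab X) (ComplexShape.up ℤ)).obj I))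
  refine ⟨Arrow.isoMk (((EtBC.pullD g).mapIso (asIso ((uR f).app _))).symm ≪≫ al) r ?_⟩
  show (((EtBC.pullD g).mapIso (asIso ((uR f).app _))).inv ≫ al.hom) ≫ _ = _ ≫ r.hom
  rw [Category.assoc]
  refine (Iso.inv_comp_eq _).2 ?_
  refine Eq.trans ?_ (Category.assoc _ _ _)
  erw [unit_bcMap f g f' g' w I]
  show _ = (_ ≫ _ ≫ r.inv) ≫ r.hom
  rw [Category.assoc, Category.assoc, Iso.inv_hom_id, Category.comp_id]
  rfl

/-- Every object of the derived category is a K-injective complex. -/
theorem exists_kInjective (K : DCoh.DEt X) :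
    ∃ I : CochainComplex (EtCoh.Ab X) ℤ, I.IsKInjective ∧ Nonempty (qh I ≅ K) :=
  Groth.Agent.DerLib.KInjDerived.essSurj_kInjective (enough X) K

end EtBcBridgeLib
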