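import Groth.Agent.EtBcBridgeLib.Compute

/-!
# The base change morphism of derived categories on a single sheaf, in every degree
-/

set_option autoImplicit false
set_option linter.all false
set_option backward.isDefEq.respectTransparency false
set_option backward.isDefEq.respectTransparency.types false
set_option synthInstance.maxHeartbeats 400000
set_option maxHeartbeats 2000000

universe u

open CategoryTheory CategoryTheory.Limits AlgebraicGeometry Opposite

attribute [local instance] HasDerivedCategory.standard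

noncomputable section

namespace EtBcBridgeLib

open EtBcDLib

attribute [local instance] EtSliceLib.pullExact pfl_push pfc_pull

variable {X S X' S' : Scheme.{u}} (f : X ⟶ S) (g : S' ⟶ S) (f' : X' ⟶ S') (g' : X' ⟶ X)
  (w : g' ≫ f = f' ≫ g) [DCoh.HasRpushEt X f] [DCoh.HasRpushEt X' f'] [DCoh.HasRpushEt S' g]

/-- The unit of the derived direct image. -/
abbrev uR {A B : Scheme.{u}} (h : A ⟶ B) [DCoh.HasRpushEt A h] :=
  (DCoh.pushEtKh A h).totalRightDerivedUnit DerivedCategory.Qh
    (HomotopyCategory.quasiIso (EtCoh.Ab A) (ComplexShape.up ℤ))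

/-- The transpose of the unit computation, with the last map named. -/
theorem exists_factor_unit (adj : EtBC.pullD g ⊣ DCoh.RpushEt S' g) {F : EtCoh.Ab X} (R : InjectiveResolution F) :
    ∃ (P : DCoh.DEt S') (a : P ⟶ (EtBC.pullD g).obj ((DCoh.RpushEt X f).obj (resQh R))) (_ : IsIso a)
      (b : P ⟶ DerivedCategory.Qh.obj ((HomotopyCategory.quotient (EtCoh.Ab S') (ComplexShape.up ℤ)).obj
        (((EtCoh.pull g).mapHomologicalComplex _).obj
          (((EtCoh.push f).mapHomologicalComplex _).obj R.cochainComplex)))) (_ : IsIso b),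
      a ≫ EtBC.bcMap f g f' g' w adj (resQh R) =
        b ≫ DerivedCategory.Qh.map ((HomotopyCategory.quotient (EtCoh.Ab S') (ComplexShape.up ℤ)).map
          (kappa f g f' g' w R.cochainComplex)) ≫
          (uR f').app (((EtCoh.pull g').mapHomotopyCategory (ComplexShape.up ℤ)).obj
              ((HomotopyCategory.quotient (EtCoh.Ab X) (ComplexShape.up ℤ)).obj R.cochainComplex)) ≫
            (DCoh.RpushEt X' f').map ((EtCoh.pull g').mapDerivedCategoryFactorsh.inv.app
              ((HomotopyCategory.quotient (EtCoh.Ab X) (ComplexShape.up ℤ)).obj R.cochainComplex)) := by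
  haveI : PreservesFiniteColimits (EtCoh.pull g) := EtCore.pull_preservesFiniteColimits g
  haveI : PreservesFiniteColimits (EtCoh.pull g') := EtCore.pull_preservesFiniteColimits g'
  haveI := isIso_unit_res f R
  let qI := (HomotopyCategory.quotient (EtCoh.Ab X) (ComplexShape.up ℤ)).obj R.cochainComplex
  let uf := (DCoh.pushEtKh X f).totalRightDerivedUnit DerivedCategory.Qh
    (HomotopyCategory.quasiIso (EtCoh.Ab X) (ComplexShape.up ℤ))
  let uf' := (DCoh.pushEtKh X' f').totalRightDerivedUnit DerivedCategory.Qh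
    (HomotopyCategory.quasiIso (EtCoh.Ab X') (ComplexShape.up ℤ))
  let ug := (DCoh.pushEtKh S' g).totalRightDerivedUnit DerivedCategory.Qh
    (HomotopyCategory.quasiIso (EtCoh.Ab S') (ComplexShape.up ℤ))
  let B := ((EtCoh.pull g').mapHomotopyCategory (ComplexShape.up ℤ)).obj qI
  let A := ((EtCoh.push f').mapHomotopyCategory (ComplexShape.up ℤ)).obj B
  obtain ⟨e, he⟩ := exists_symm_eq adj (canAdj g) (DerivedCategory.Qh.obj
    (((EtCoh.push f).mapHomotopyCategory (ComplexShape.up ℤ)).obj qI))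
  let T : DerivedCategory.Qh.obj A ⟶ (DCoh.RpushEt X' f').obj ((EtBC.pullD g').obj (resQh R)) :=
    uf'.app B ≫ (DCoh.RpushEt X' f').map ((EtCoh.pull g').mapDerivedCategoryFactorsh.inv.app qI)
  let al := (EtCoh.pull g).mapDerivedCategoryFactorsh.hom
  refine ⟨_, (EtBC.pullD g).map (uf.app qI), inferInstance,
    e.hom ≫ al.app (((EtCoh.push f).mapHomotopyCategory (ComplexShape.up ℤ)).obj qI), inferInstance, ?_⟩
  have hd : uf.app qI ≫ (EtBC.bcAdj f g f' g' w).app (resQh R) = (EtBC.bcUnit f g f' g' w).app qI :=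
    Functor.rightDerived_fac_app _ uf (HomotopyCategory.quasiIso (EtCoh.Ab X) (ComplexShape.up ℤ)) _
      (EtBC.bcUnit f g f' g' w) qI
  have hu : (EtBC.bcUnit f g f' g' w).app qI =
      (DerivedCategory.Qh.map ((EtBC.pushToPushPullH f g f' g' w).app qI) ≫ ug.app A) ≫
        (DCoh.RpushEt S' g).map T := by
    simp [EtBC.bcUnit, T, ug, uf', A, B]
  have hε : (EtBC.pullD g).map (ug.app A) ≫ (canAdj g).counit.app (DerivedCategory.Qh.obj A) =
      al.app (((EtCoh.push g).mapHomotopyCategory (ComplexShape.up ℤ)).obj A) ≫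
        DerivedCategory.Qh.map
          ((Groth.Agent.DerLib.KInjDerived.mapHomotopyCategoryAdj (EtCoh.pullPushAdj g)
            (ComplexShape.up ℤ)).counit.app A) :=
    haveI := Groth.Agent.DerLib.KInjDerived.isRightDerived_comp (G := EtCoh.pull g) (DCoh.RpushEt S' g) ug (enough S')
    (Groth.Agent.DerLib.KInjDerived.mapHomotopyCategoryAdj (EtCoh.pullPushAdj g)
      (ComplexShape.up ℤ)).derivedε_fac_app (HomotopyCategory.quasiIso (EtCoh.Ab S') (ComplexShape.up ℤ))
      al ug A
  dsimp only [EtBC.bcMap]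
  rw [← Adjunction.homEquiv_naturality_left_symm, hd, hu]
  refine (he _).trans ?_
  refine Eq.trans ?_ (Category.assoc e.hom (al.app _) _).symm
  refine congrArg (e.hom ≫ ·) ?_
  erw [Adjunction.homEquiv_naturality_right_symm, Adjunction.homEquiv_counit, Functor.map_comp]
  rw [Category.assoc, Category.assoc]
  erw [reassoc_of% hε]
  erw [reassoc_of% (al.naturality ((EtBC.pushToPushPullH f g f' g' w).app qI))]
  refine congrArg (al.app _ ≫ ·) ?_
  erw [← Functor.map_comp_assoc, kappa_eq f g f' g' w R.cochainComplex]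


/-- Arrows isomorphic through a functor. -/
theorem nonempty_arrow_map {A B : Type*} [Category A] [Category B] (H : A ⥤ B) {P Q P' Q' : A} {f : P ⟶ Q}
    {f' : P' ⟶ Q'} (e : Arrow.mk f ≅ Arrow.mk f') : Nonempty (Arrow.mk (H.map f) ≅ Arrow.mk (H.map f')) :=
  ⟨H.mapArrow.mapIso e⟩

/-- The base change morphism of derived categories computes base change in every degree. -/
theorem nonempty_bcMap_arrow (adj : EtBC.pullD g ⊣ DCoh.RpushEt S' g) (F : EtCoh.Ab X) (q : ℕ) :
    Nonempty (Arrow.mk ((DerivedCategory.homologyFunctor (EtCoh.Ab S') (q : ℤ)).map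
      (EtBC.bcMap f g f' g' w adj (EtBC.single X F))) ≅ Arrow.mk (EtBC.bcQ f g f' g' w q F)) := by
  let R := injectiveResolution F
  let J := injectiveResolution ((EtCoh.pull g').obj F)
  let H := DerivedCategory.homologyFunctor (EtCoh.Ab S') (q : ℤ)
  have e1 : Arrow.mk (EtBC.bcMap f g f' g' w adj (EtBC.single X F)) ≅
      Arrow.mk (EtBC.bcMap f g f' g' w adj (resQh R)) :=
    Arrow.isoMk ((EtBC.pullD g).mapIso ((DCoh.RpushEt X f).mapIso (singleIso R)))
      ((DCoh.RpushEt X' f').mapIso ((EtBC.pullD g').mapIso (singleIso R)))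
      (bcMap_natural f g f' g' w adj (singleIso R).hom)
  obtain ⟨P, a, _, b, _, e⟩ := exists_factor_unit f g f' g' w adj R
  let Q := HomotopyCategory.quotient (EtCoh.Ab X') (ComplexShape.up ℤ)
  let qI := (HomotopyCategory.quotient (EtCoh.Ab X) (ComplexShape.up ℤ)).obj R.cochainComplex
  let B := ((EtCoh.pull g').mapHomotopyCategory (ComplexShape.up ℤ)).obj qI
  let qj : B ⟶ Q.obj J.cochainComplex := Q.map (jExt g' R J)
  haveI : IsIso (DerivedCategory.Qh.map qj) := by
    haveI := quasiIso_jExt g' R J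
    haveI : IsIso (DerivedCategory.Q.map (jExt g' R J)) :=
      (DerivedCategory.isIso_Q_map_iff_quasiIso (EtCoh.Ab X') _).2 inferInstance
    exact (NatIso.isIso_map_iff (DerivedCategory.quotientCompQhIso (EtCoh.Ab X')) (jExt g' R J)).2 inferInstance
  haveI : IsIso ((uR f').app (Q.obj J.cochainComplex)) := isIso_unit_res f' J
  let ψ := psiZ f g f' g' w R J
  let T := (uR f').app B ≫ (DCoh.RpushEt X' f').map ((EtCoh.pull g').mapDerivedCategoryFactorsh.inv.app qI)
  have hT : T = (DCoh.pushEtKh X' f').map qj ≫ (uR f').app (Q.obj J.cochainComplex) ≫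
      (DCoh.RpushEt X' f').map (inv (DerivedCategory.Qh.map qj)) ≫
      (DCoh.RpushEt X' f').map ((EtCoh.pull g').mapDerivedCategoryFactorsh.inv.app qI) := by
    rw [(uR f').naturality_assoc]
    simp only [Functor.comp_map]
    rw [← Functor.map_comp_assoc, IsIso.hom_inv_id, CategoryTheory.Functor.map_id, Category.id_comp]
  let r := (uR f').app (Q.obj J.cochainComplex) ≫
      (DCoh.RpushEt X' f').map (inv (DerivedCategory.Qh.map qj)) ≫
      (DCoh.RpushEt X' f').map ((EtCoh.pull g').mapDerivedCategoryFactorsh.inv.app qI)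
  have hk : a ≫ EtBC.bcMap f g f' g' w adj (resQh R) =
      (b ≫ DerivedCategory.Qh.map ((HomotopyCategory.quotient (EtCoh.Ab S') (ComplexShape.up ℤ)).map ψ)) ≫ r := by
    rw [e]
    show b ≫ _ ≫ T = _
    rw [hT, Category.assoc]
    refine congrArg (b ≫ ·) ?_
    show DerivedCategory.Qh.map _ ≫ DerivedCategory.Qh.map (((EtCoh.push f').mapHomotopyCategory _).map qj) ≫ r = _
    erw [← Functor.map_comp_assoc]
    refine congrArg (fun t => DerivedCategory.Qh.map t ≫ r) ?_
    exact ((HomotopyCategory.quotient (EtCoh.Ab S') (ComplexShape.up ℤ)).map_comp _ _).symm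
  haveI : IsIso r := inferInstance
  have e2 : Arrow.mk (EtBC.bcMap f g f' g' w adj (resQh R)) ≅
      Arrow.mk (DerivedCategory.Qh.map ((HomotopyCategory.quotient (EtCoh.Ab S') (ComplexShape.up ℤ)).map ψ)) :=
    Arrow.isoMk ((asIso a).symm ≪≫ asIso b) (asIso r).symm (by
      show (inv a ≫ b) ≫ _ = EtBC.bcMap f g f' g' w adj (resQh R) ≫ inv r
      rw [IsIso.eq_comp_inv, Category.assoc, Category.assoc, IsIso.inv_comp_eq, hk, Category.assoc]
      rfl)
  obtain ⟨e3⟩ := nonempty_arrow_map H (e1 ≪≫ e2)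
  let Φ := Functor.isoWhiskerLeft (HomotopyCategory.quotient (EtCoh.Ab S') (ComplexShape.up ℤ))
      (DerivedCategory.homologyFunctorFactorsh (EtCoh.Ab S') (q : ℤ)) ≪≫
    HomotopyCategory.homologyFunctorFactors (EtCoh.Ab S') (ComplexShape.up ℤ) (q : ℤ)
  obtain ⟨e5⟩ := nonempty_arrow_iso f g f' g' w R J q
  exact ⟨e3 ≪≫ Arrow.isoMk' (H.map (DerivedCategory.Qh.map ((HomotopyCategory.quotient (EtCoh.Ab S') (ComplexShape.up ℤ)).map ψ))) (HomologicalComplex.homologyMap ψ (q : ℤ)) (Φ.app _) (Φ.app _) (Φ.hom.naturality ψ).symm ≪≫ e5⟩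

/-- Isomorphy in cohomology is isomorphy of base change. -/
theorem isIso_iff (adj : EtBC.pullD g ⊣ DCoh.RpushEt S' g) (F : EtCoh.Ab X) (q : ℕ) :
    IsIso ((DerivedCategory.homologyFunctor (EtCoh.Ab S') (q : ℤ)).map
      (EtBC.bcMap f g f' g' w adj (EtBC.single X F))) ↔ IsIso (EtBC.bcQ f g f' g' w q F) := by
  obtain ⟨e⟩ := nonempty_bcMap_arrow f g f' g' w adj F q
  exact (MorphismProperty.isomorphisms _).arrow_mk_iso_iff e

/-- Injectivity in cohomology is injectivity of base change. -/
theorem mono_iff (adj : EtBC.pullD g ⊣ DCoh.RpushEt S' g) (F : EtCoh.Ab X) (q : ℕ) :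
    Mono ((DerivedCategory.homologyFunctor (EtCoh.Ab S') (q : ℤ)).map
      (EtBC.bcMap f g f' g' w adj (EtBC.single X F))) ↔ Mono (EtBC.bcQ f g f' g' w q F) := by
  obtain ⟨e⟩ := nonempty_bcMap_arrow f g f' g' w adj F q
  exact (MorphismProperty.monomorphisms _).arrow_mk_iso_iff e

/-- The direct image of a sheaf has no cohomology in negative degrees. -/
theorem isZero_homology_rpush_single {A B : Scheme.{u}} (h : A ⟶ B) [DCoh.HasRpushEt A h] (F : EtCoh.Ab A)
    (i : ℤ) (hi : i < 0) :
    IsZero ((DerivedCategory.homologyFunctor (EtCoh.Ab B) i).obj ((DCoh.RpushEt A h).obj (EtBC.single A F))) := by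
  let R := injectiveResolution F
  haveI := isIso_unit_res h R
  let K := ((EtCoh.push h).mapHomologicalComplex (ComplexShape.up ℤ)).obj R.cochainComplex
  have hK : IsZero (K.homology i) := by
    rw [← HomologicalComplex.exactAt_iff_isZero_homology]
    exact HomologicalComplex.ExactAt.of_isZero ((EtCoh.push h).map_isZero
      (CochainComplex.isZero_of_isStrictlyGE R.cochainComplex 0 i hi))
  exact hK.of_iso ((DerivedCategory.homologyFunctor (EtCoh.Ab B) i).mapIso
      ((DCoh.RpushEt A h).mapIso (singleIso R) ≪≫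
        (asIso ((uR h).app ((HomotopyCategory.quotient (EtCoh.Ab A) (ComplexShape.up ℤ)).obj R.cochainComplex))).symm ≪≫
        DerivedCategory.Qh.mapIso (((EtCoh.push h).mapHomotopyCategoryFactors (ComplexShape.up ℤ)).app
          R.cochainComplex) ≪≫
        (DerivedCategory.quotientCompQhIso (EtCoh.Ab B)).app _) ≪≫
      (DerivedCategory.homologyFunctorFactors (EtCoh.Ab B) i).app K)

/-- In negative degrees the base change morphism is an isomorphism in cohomology. -/
theorem isIso_neg (adj : EtBC.pullD g ⊣ DCoh.RpushEt S' g) (F : EtCoh.Ab X) (i : ℤ) (hi : i < 0) :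
    IsIso ((DerivedCategory.homologyFunctor (EtCoh.Ab S') i).map
      (EtBC.bcMap f g f' g' w adj (EtBC.single X F))) := by
  obtain ⟨a⟩ := nonempty_homology_pullD g ((DCoh.RpushEt X f).obj (EtBC.single X F)) i
  obtain ⟨b⟩ := nonempty_pullD_single g' F
  have h1 := ((EtCoh.pull g).map_isZero (isZero_homology_rpush_single f F i hi)).of_iso a
  have h2 := (isZero_homology_rpush_single f' ((EtCoh.pull g').obj F) i hi).of_iso
    ((DerivedCategory.homologyFunctor (EtCoh.Ab S') i).mapIso ((DCoh.RpushEt X' f').mapIso b))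
  exact CategoryTheory.Limits.IsZero.isIso h1 h2 _

/-- Base change in degrees at most `n`, on the level of derived categories. -/
theorem isIso_of_bcQ (adj : EtBC.pullD g ⊣ DCoh.RpushEt S' g) (F : EtCoh.Ab X) (n : ℕ)
    (h : ∀ q : ℕ, q ≤ n → IsIso (EtBC.bcQ f g f' g' w q F)) (q : ℤ) (hq : q ≤ n) :
    IsIso ((DerivedCategory.homologyFunctor (EtCoh.Ab S') q).map
      (EtBC.bcMap f g f' g' w adj (EtBC.single X F))) := by
  by_cases h0 : q < 0
  · exact isIso_neg f g f' g' w adj F q h0
  · obtain ⟨k, rfl⟩ := Int.eq_ofNat_of_zero_le (not_lt.1 h0)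
    exact (isIso_iff f g f' g' w adj F k).2 (h k (by omega))

end EtBcBridgeLib
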