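import Groth.Agent.EtBcBridgeLib.Main
import Groth.Agent.EtBcKilledLib.Comp
import Groth.Agent.EtBcQLib.Etale
import Groth.Agent.EtBcQLib.Strict
import Groth.Agent.EtAcycLib.Comp
import Groth.Agent.EtAcycFibLib.Acyclic
import Groth.Agent.S1477
import Groth.Agent.S6669
import Groth.Agent.S0655

/-!
# Base change for open immersions gives base change for quasi-finite morphisms
-/

set_option autoImplicit false
set_option linter.all false
set_option backward.isDefEq.respectTransparency false
set_option backward.isDefEq.respectTransparency.types false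
set_option synthInstance.maxHeartbeats 400000
set_option maxHeartbeats 2000000

universe u

open CategoryTheory CategoryTheory.Limits CategoryTheory.Abelian AlgebraicGeometry Opposite
open Groth.Agent Groth.Agent.EtShLib EtRpushStalkLib

noncomputable section

namespace EtBcBridgeLib

attribute [local instance] EtSliceLib.pullExact

/-- Base change along quasi-compact open immersions, after every quasi-finite base change. -/
def OpenBC {X Y : Scheme.{u}} (g : X ⟶ Y) (L : Set ℕ) (n : ℕ) : Prop :=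
  ∀ ⦃Y' X' : Scheme.{u}⦄ (i : Y' ⟶ Y) (a : X' ⟶ X) (g' : X' ⟶ Y'), IsPullback a g' g i →
    LocallyQuasiFinite i → LocallyOfFiniteType i →
    ∀ ⦃T Z : Scheme.{u}⦄ (j : T ⟶ Y') (h : Z ⟶ X') (e : Z ⟶ T) (c : IsPullback e h j g'),
      IsOpenImmersion j → QuasiCompact j → ∀ (F : EtCoh.Ab T), EtAcyc.IsLTorsion L F →
        ∀ q : ℕ, q ≤ n → IsIso (EtBC.bcQ j g' h e c.w q F)

/-- The hypothesis in the form of a chosen pullback suffices. -/
theorem openBC_of_pullback {X Y : Scheme.{u}} (g : X ⟶ Y) (L : Set ℕ) (n : ℕ)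
    (H : ∀ (Y' : Scheme.{u}) (i : Y' ⟶ Y), LocallyQuasiFinite i → LocallyOfFiniteType i →
      ∀ (T : Scheme.{u}) (j : T ⟶ Y'), IsOpenImmersion j → QuasiCompact j → ∀ (F : EtCoh.Ab T),
        EtAcyc.IsLTorsion L F → ∀ q : ℕ, q ≤ n →
          IsIso (EtBC.bcQ j (pullback.snd g i) (pullback.fst (pullback.snd g i) j)
            (pullback.snd (pullback.snd g i) j) pullback.condition.symm q F)) :
    OpenBC g L n := by
  intro Y' X' i a g' sq hi hi' T Z j h e c hj hj' F hF q hq
  let θ := sq.isoPullback.hom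
  have hθ : θ ≫ pullback.snd g i = g' := sq.isoPullback_hom_snd
  have c0 : IsPullback (pullback.snd (pullback.snd g i) j) (pullback.fst (pullback.snd g i) j) j (pullback.snd g i) :=
    (IsPullback.of_hasPullback (pullback.snd g i) j).flip
  let k : Z ⟶ pullback (pullback.snd g i) j := c0.lift e (h ≫ θ) (by rw [Category.assoc, hθ, c.w])
  have hk : k ≫ pullback.snd (pullback.snd g i) j = e := c0.lift_fst _ _ _
  have c' : IsPullback k h (pullback.fst (pullback.snd g i) j) θ :=
    IsPullback.of_right (by rw [hk, hθ]; exact c) (c0.lift_snd _ _ _) c0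
  haveI : AlgebraicGeometry.Etale θ := inferInstance
  exact ((EtBcQLib.isIso_outer_iff (pullback.snd g i) j (pullback.fst (pullback.snd g i) j)
    (pullback.snd (pullback.snd g i) j) c0 θ h k c' g' hθ e hk c q F
    (EtBcQLib.isIso_bcQ_etale (pullback.fst (pullback.snd g i) j) θ h k c' q _)).2
      (by haveI := H Y' i hi hi' T j hj hj' F hF q hq; infer_instance))

/-- The hypothesis passes to open subschemes of the base. -/
theorem OpenBC.restrict {X Y : Scheme.{u}} {g : X ⟶ Y} {L : Set ℕ} {n : ℕ} (H : OpenBC g L n)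
    {U XU : Scheme.{u}} (ι : U ⟶ Y) [IsOpenImmersion ι] (a : XU ⟶ X) (gU : XU ⟶ U) (sq : IsPullback a gU g ι) :
    OpenBC gU L n := by
  intro Y' X' i a' g' sq' hi hi'
  haveI := hi
  haveI := hi'
  exact H (i ≫ ι) (a' ≫ a) g' (sq'.paste_horiz sq) inferInstance inferInstance

/-- Base change along an affine quasi-finite morphism of finite presentation. -/
theorem OpenBC.isIso_bcQ {X Y : Scheme.{u}} {g : X ⟶ Y} {L : Set ℕ} {n : ℕ} (H : OpenBC g L n)
    [CompactSpace Y] [QuasiSeparatedSpace Y] {T Z : Scheme.{u}} (t : T ⟶ Y) [IsSeparated t] [QuasiCompact t]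
    [LocallyQuasiFinite t] [LocallyOfFinitePresentation t] (h : Z ⟶ X) (e : Z ⟶ T) (c : IsPullback e h t g)
    (F : EtCoh.Ab T) (hF : EtAcyc.IsLTorsion L F) (q : ℕ) (hq : q ≤ n) :
    IsIso (EtBC.bcQ t g h e c.w q F) := by
  obtain ⟨Zb, j, π, hj, hj', hπ, hπ', hjπ⟩ := Groth.Agent.S1477.result t
  haveI := hj
  haveI := hj'
  haveI := hπ
  haveI : IsFinite (pullback.fst g π) := MorphismProperty.pullback_fst (P := @IsFinite) g π hπ
  haveI := EtBcKilledLib.preservesFiniteColimits_push_integral π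
  haveI := EtBcKilledLib.preservesFiniteColimits_push_integral (pullback.fst g π)
  let h' : Z ⟶ pullback g π := pullback.lift h (e ≫ j) (by rw [Category.assoc, hjπ, c.w])
  have hh : h' ≫ pullback.fst g π = h := pullback.lift_fst _ _ _
  have cπ : IsPullback (pullback.snd g π) (pullback.fst g π) π g := (IsPullback.of_hasPullback g π).flip
  have cj : IsPullback e h' j (pullback.snd g π) :=
    IsPullback.of_bot (by rw [hh, hjπ]; exact c) (pullback.lift_snd _ _ _).symm cπ
  have hinner : IsIso (EtBC.bcQ j (pullback.snd g π) h' e cj.w q F) :=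
    H π (pullback.fst g π) (pullback.snd g π) (IsPullback.of_hasPullback g π) inferInstance inferInstance
      j h' e cj hj hj' F hF q hq
  have E : (EtCoh.pull g).map ((EtBcKilledLib.afterIso π j t hjπ q).hom.app F) ≫
      EtCoh.baseChange0 π g (pullback.fst g π) (pullback.snd g π) cπ.w ((EtCoh.Rpush j q).obj F) ≫
        (EtCoh.push (pullback.fst g π)).map (EtBC.bcQ j (pullback.snd g π) h' e cj.w q F) =
      EtBC.bcQ t g h e c.w q F ≫
        (EtBcKilledLib.afterIso (pullback.fst g π) h' h hh q).hom.app ((EtCoh.pull e).obj F) :=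
    congrArg (fun z : (EtBcKilledLib.outSrc g t).F q ⟶ (EtBcKilledLib.afterTgt (pullback.fst g π) h' e).F q => z.app F)
      (EtBcKilledLib.afterFam_eq π g (pullback.fst g π) (pullback.snd g π) cπ j h' e cj t hjπ h hh c q)
  haveI : IsIso (EtCoh.baseChange0 π g (pullback.fst g π) (pullback.snd g π) cπ.w ((EtCoh.Rpush j q).obj F)) :=
    Groth.Agent.S0655.result π g (pullback.fst g π) (pullback.snd g π) cπ _
  haveI := hinner
  haveI : IsIso ((EtBcKilledLib.afterIso π j t hjπ q).hom.app F) := inferInstance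
  haveI : IsIso ((EtBcKilledLib.afterIso (pullback.fst g π) h' h hh q).hom.app ((EtCoh.pull e).obj F)) := inferInstance
  rw [← isIso_comp_right_iff (EtBC.bcQ t g h e c.w q F)
    ((EtBcKilledLib.afterIso (pullback.fst g π) h' h hh q).hom.app ((EtCoh.pull e).obj F)), ← E]
  infer_instance

/-- The consequence on the fibres over strict localisations. -/
theorem OpenBC.bijective_Hmap {X Y : Scheme.{u}} {g : X ⟶ Y} {L : Set ℕ} {n : ℕ} (H : OpenBC g L n)
    [IsAffine Y] (x : X) (RS : Type u) [CommRing RS] [IsLocalRing RS]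
    [Algebra (Y.presheaf.stalk (g.base x)) RS] [IsLocalHom (algebraMap (Y.presheaf.stalk (g.base x)) RS)]
    [Hensel.IsStrictHenselization (Y.presheaf.stalk (g.base x)) RS]
    (RX : Type u) [CommRing RX] [IsLocalRing RX] [Algebra (X.presheaf.stalk x) RX]
    [IsLocalHom (algebraMap (X.presheaf.stalk x) RX)] [Hensel.IsStrictHenselization (X.presheaf.stalk x) RX]
    (ψ : RS →+* RX) [IsLocalHom ψ]
    (hψ : ψ.comp (algebraMap (Y.presheaf.stalk (g.base x)) RS) = (algebraMap (X.presheaf.stalk x) RX).comp (g.stalkMap x).hom)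
    {T : Scheme.{u}} (t : T ⟶ Y) [IsAffine T] [LocallyQuasiFinite t] [LocallyOfFinitePresentation t]
    {PS PX : Scheme.{u}} (aS : PS ⟶ T) (bS : PS ⟶ Spec (CommRingCat.of RS))
    (sqS : IsPullback aS bS t (Hens2.specOf Y (g.base x) RS))
    (aX : PX ⟶ T) (bX : PX ⟶ Spec (CommRingCat.of RX))
    (sqX : IsPullback aX bX t (Hens2.specOf X x RX ≫ g))
    (m : PX ⟶ PS) (w : m ≫ aS = aX) (hm : m ≫ bS = bX ≫ Spec.map (CommRingCat.ofHom ψ))
    (F : EtCoh.Ab Y) (hF : EtAcyc.IsLTorsion L F) (φ : Over.mk (aX ≫ t) ⟶ Over.mk (aS ≫ t))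
    (hφ : φ.left = m) (q : ℕ) (hq : q ≤ n) :
    Function.Bijective (DescSecLib.etSys.Hmap F q φ) := by
  haveI : QuasiCompact t := inferInstance
  haveI : IsSeparated t := inferInstance
  subst hφ
  have hb := (EtBcQLib.isIso_bcQ_iff g t (pullback.snd t g) (pullback.fst t g) (IsPullback.of_hasPullback t g)
    ((EtCoh.pull t).obj F) q).2
      (H.isIso_bcQ t (pullback.snd t g) (pullback.fst t g) (IsPullback.of_hasPullback t g)
        ((EtCoh.pull t).obj F) (EtAcycLib.isLTorsion_pull_any t hF) q hq)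
    x RS RX ψ hψ PS PX aS bS sqS aX bX sqX φ.left w hm
  have hm' : Function.Bijective (EtCore.Hpull φ.left ((EtCoh.pull aS).obj ((EtCoh.pull t).obj F)) q) :=
    (Function.Bijective.of_comp_iff' (ConcreteCategory.bijective_of_isIso
      ((EtCoh.HF PX q).map (((EtCore.pullComp φ.left aS).symm ≪≫ EtCore.pullCongr w).app
        ((EtCoh.pull t).obj F)).hom)) _).1 hb
  have key : Function.Bijective (EtCore.Hpull φ.left (DescSecLib.etSys.M F (Over.mk (aS ≫ t))) q) :=
    CovDevLib.bijective_Hpull_of_iso_obj φ.left ((EtCore.pullComp aS t).symm.app F) q hm'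
  haveI := EtAcycLib.isIso_theta F φ
  rw [show (DescSecLib.etSys.Hmap F q φ : _ → _) = _ from funext (EtAcycLib.hmap_eq_Hpull F q φ)]
  exact (EtAcycLib.bijective_mk₀_iso_postcomp (asIso (DescSecLib.etSys.θ F φ)) q).comp key

end EtBcBridgeLib
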