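import Groth.Agent.EtAcycFibLib.Trans
import Groth.Agent.S1974

/-!
# Residue extensions of strict localisations
-/

set_option autoImplicit false
set_option linter.all false
set_option backward.isDefEq.respectTransparency false
set_option backward.isDefEq.respectTransparency.types false
set_option synthInstance.maxHeartbeats 400000
set_option maxHeartbeats 1000000

universe u

open CategoryTheory CategoryTheory.Limits AlgebraicGeometry Opposite

noncomputable section

namespace EtBcBridgeLib

/-- A weakly etale local homomorphism has algebraic residue extension. -/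
theorem isAlgebraic_residueField_of_weaklyEtale (A B : Type u) [CommRing A] [CommRing B] [IsLocalRing A]
    [IsLocalRing B] [Algebra A B] [IsLocalHom (algebraMap A B)] [Algebra.WeaklyEtale A B] :
    Algebra.IsAlgebraic (IsLocalRing.ResidueField A) (IsLocalRing.ResidueField B) := by
  let p := IsLocalRing.maximalIdeal A
  let q := IsLocalRing.maximalIdeal B
  haveI : q.LiesOver p := ⟨(IsLocalRing.maximalIdeal_comap (algebraMap A B)).symm⟩
  letI : Algebra (Localization.AtPrime p) (Localization.AtPrime q) :=
    (Localization.localRingHom p q (algebraMap A B) (Ideal.over_def q p)).toAlgebra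
  haveI : Localization.AtPrime.IsLiesOverAlgebra p q :=
    ⟨(Localization.localRingHom_unique p q _ (Ideal.over_def q p) fun x => Localization.localRingHom_to_map p q (algebraMap A B) (Ideal.over_def q p) x).symm⟩
  haveI := Groth.Agent.S1974.result A B p q
  haveI : Algebra.IsAlgebraic p.ResidueField q.ResidueField := inferInstance
  let f : IsLocalRing.ResidueField A →+* p.ResidueField := algebraMap (A ⧸ p) p.ResidueField
  let g : IsLocalRing.ResidueField B →+* q.ResidueField := algebraMap (B ⧸ q) q.ResidueField
  refine Algebra.IsAlgebraic.of_ringHom_of_comp_eq f g p.bijective_algebraMap_quotient_residueField.2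
    q.bijective_algebraMap_quotient_residueField.1 ?_
  refine RingHom.ext fun z => ?_
  obtain ⟨a, rfl⟩ := IsLocalRing.residue_surjective z
  show algebraMap p.ResidueField q.ResidueField (algebraMap (A ⧸ p) p.ResidueField (Ideal.Quotient.mk p a)) =
    algebraMap (B ⧸ q) q.ResidueField (Ideal.Quotient.mk q (algebraMap A B a))
  rw [← Ideal.Quotient.algebraMap_eq, ← Ideal.Quotient.algebraMap_eq]
  simp [← IsScalarTower.algebraMap_apply]

/-- A weakly etale morphism has algebraic residue extensions. -/
theorem isAlgebraic_residueFieldMap {U V : Scheme.{u}} (f : U ⟶ V) [WeaklyEtale f] (y : U) :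
    letI := (f.residueFieldMap y).hom.toAlgebra
    Algebra.IsAlgebraic (V.residueField (f.base y)) (U.residueField y) := by
  let A := V.presheaf.stalk (f.base y)
  let B := U.presheaf.stalk y
  letI : Algebra A B := (f.stalkMap y).hom.toAlgebra
  haveI : IsLocalHom (algebraMap A B) := inferInstanceAs (IsLocalHom (f.stalkMap y).hom)
  haveI : Algebra.WeaklyEtale A B := by
    refine EtAcycFibLib.weaklyEtale_ring ?_
    haveI := EtAcycFibLib.weaklyEtale_fromSpecStalk y
    haveI := EtAcycFibLib.weaklyEtale_fromSpecStalk (f.base y)
    haveI : WeaklyEtale (Spec.map (f.stalkMap y) ≫ V.fromSpecStalk (f.base y)) := by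
      rw [Scheme.SpecMap_stalkMap_fromSpecStalk]
      infer_instance
    exact WeaklyEtale.of_comp (Spec.map (f.stalkMap y)) (V.fromSpecStalk (f.base y))
  have h := isAlgebraic_residueField_of_weaklyEtale A B
  letI := (f.residueFieldMap y).hom.toAlgebra
  refine Algebra.IsAlgebraic.of_ringHom_of_comp_eq (S := IsLocalRing.ResidueField A) (B := IsLocalRing.ResidueField B)
    (RingHom.id _) (RingHom.id _) Function.surjective_id Function.injective_id ?_
  refine RingHom.ext fun z => ?_
  obtain ⟨a, rfl⟩ := IsLocalRing.residue_surjective z
  rfl

end EtBcBridgeLib
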