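import Groth.Agent.EtBcBridgeLib.OpenFinite
import Groth.Agent.EtBcBridgeLib.Extend
import Groth.Agent.EtBcBridgeLib.Residue
import Groth.Agent.EtAcycFibLib.Cover
import Groth.Agent.EtStrictAcycLib.Stages
import Groth.Agent.S0754

/-!
# Geometric fibres between strict localisations, stage by stage
-/

set_option autoImplicit false
set_option linter.all false
set_option backward.isDefEq.respectTransparency false
set_option backward.isDefEq.respectTransparency.types false
set_option synthInstance.maxHeartbeats 400000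
set_option maxHeartbeats 2000000

universe u

open CategoryTheory CategoryTheory.Limits CategoryTheory.Abelian AlgebraicGeometry Opposite DescSecLib
open Groth.Agent.EtShLib EtRpushStalkLib EtAcycFibLib

noncomputable section

namespace EtBcBridgeLib

attribute [local instance] EtSliceLib.pullExact

section Limit

variable {Y W : Scheme.{u}} {R : Type u} [CommRing R] {gS : Spec (CommRingCat.of R) ⟶ Y} (C : Chart gS)
  (a : W ⟶ Spec (CommRingCat.of R)) {O : Scheme.{u}} (b : O ⟶ Spec (CommRingCat.of R))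

/-- The fibre products over the neighbourhoods. -/
def fibD : C.I ⥤ Scheme.{u} where
  obj i := pullback (a ≫ C.π i) (b ≫ C.π i)
  map {i j} m := pullback.map (a ≫ C.π i) (b ≫ C.π i) (a ≫ C.π j) (b ≫ C.π j) (𝟙 W) (𝟙 O) (C.DS.map m).left
    (by rw [Category.id_comp, Category.assoc, C.nat]) (by rw [Category.id_comp, Category.assoc, C.nat])
  map_id i := by
    apply pullback.hom_ext <;> simp
  map_comp {i j k} m m' := by
    apply pullback.hom_ext <;> simp

/-- The cone of the fibre product over the strict localisation. -/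
def fibCone : Cone (fibD C a b) where
  pt := pullback a b
  π :=
    { app := fun i => pullback.map a b (a ≫ C.π i) (b ≫ C.π i) (𝟙 W) (𝟙 O) (C.π i)
        (Category.id_comp _).symm (Category.id_comp _).symm
      naturality := fun i j m => by
        apply pullback.hom_ext <;> simp [fibD] }

/-- The fibre product over the strict localisation is the limit. -/
def fibLimit : IsLimit (fibCone C a b) := by
  let i₀ : C.I := Classical.choice IsCofiltered.nonempty
  have h1 : ∀ (s : Cone (fibD C a b)) (i j : C.I) (m : i ⟶ j),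
      s.π.app i ≫ pullback.fst _ _ = s.π.app j ≫ pullback.fst _ _ ∧
        s.π.app i ≫ pullback.snd _ _ = s.π.app j ≫ pullback.snd _ _ := fun s i j m => by
    rw [← s.w m]
    constructor <;> simp [fibD]
  have h2 : ∀ (s : Cone (fibD C a b)) (i : C.I),
      s.π.app i ≫ pullback.fst _ _ = s.π.app i₀ ≫ pullback.fst _ _ ∧
        s.π.app i ≫ pullback.snd _ _ = s.π.app i₀ ≫ pullback.snd _ _ := fun s i => by
    obtain ⟨k, m, m', -⟩ := IsCofilteredOrEmpty.cone_objs i i₀
    exact ⟨(h1 s k i m).1.symm.trans (h1 s k i₀ m').1, (h1 s k i m).2.symm.trans (h1 s k i₀ m').2⟩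
  have hw : ∀ s : Cone (fibD C a b), (s.π.app i₀ ≫ pullback.fst _ _) ≫ a = (s.π.app i₀ ≫ pullback.snd _ _) ≫ b :=
    fun s => C.hc.hom_ext fun i => by
      show ((_ ≫ _) ≫ a) ≫ C.π i = ((_ ≫ _) ≫ b) ≫ C.π i
      rw [← (h2 s i).1, ← (h2 s i).2]
      simp only [Category.assoc]
      exact congrArg (s.π.app i ≫ ·) pullback.condition
  refine
    { lift := fun s => pullback.lift _ _ (hw s)
      fac := fun s i => ?_
      uniq := fun s m hm => ?_ }
  · apply pullback.hom_ext
    · simp [fibCone, (h2 s i).1]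
    · simp [fibCone, (h2 s i).2]
  · apply pullback.hom_ext
    · rw [pullback.lift_fst, ← hm i₀]
      simp [fibCone]
    · rw [pullback.lift_snd, ← hm i₀]
      simp [fibCone]

theorem fibD_affine [IsAffine W] [IsAffine O] (i : C.I) : IsAffine ((fibD C a b).obj i) :=
  haveI : IsAffine (C.DS.obj i).left := C.aff i
  inferInstanceAs (IsAffine (pullback (a ≫ C.π i) (b ≫ C.π i)))

end Limit

section Qf

variable {V W : Scheme.{u}} [IsAffine V] [IsAffine W] (a : W ⟶ V) {Ω : Type u} [Field Ω]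
  (b : Spec (CommRingCat.of Ω) ⟶ V)
  (hb : ∀ z : Ω, ∃ (P : Polynomial Γ(V, ⊤)) (d : ℕ), P.natDegree ≤ d ∧
    (Spec.preimage (b ≫ V.isoSpec.hom)).hom (P.coeff d) ≠ 0 ∧
    P.eval₂ (Spec.preimage (b ≫ V.isoSpec.hom)).hom z = 0)

include hb in
/-- Above every stage there is a quasi-finite one. -/
theorem exists_qf_stage :
    letI := (Spec.preimage (b ≫ V.isoSpec.hom)).hom.toAlgebra
    ∀ i : FPColimLib.Stage Γ(V, ⊤) Ω, ∃ (Z : Scheme.{u}) (p : Z ⟶ V) (z : Spec (CommRingCat.of Ω) ⟶ Z)
      (r : pullback a p ⟶ (preD (Ω := Ω) (a ≫ V.isoSpec.hom)).obj (op i)), IsAffine Z ∧ LocallyQuasiFinite p ∧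
        LocallyOfFinitePresentation p ∧ z ≫ p = b ∧ r ≫ pullback.fst _ _ = pullback.fst a p ∧
        ∀ {A' : Scheme.{u}} (u : A' ⟶ pullback a p) (v : A' ⟶ Spec (CommRingCat.of Ω)),
          u ≫ pullback.snd a p = v ≫ z →
            (u ≫ r) ≫ pullback.snd _ _ = v ≫ (stageCone (A := Γ(V, ⊤)) (Ω := Ω)).π.app (op i) := by
  letI := (Spec.preimage (b ≫ V.isoSpec.hom)).hom.toAlgebra
  intro i
  obtain ⟨B, _, _, hfp, hqf, j, φ, hφj⟩ := exists_qf_refinement (A := Γ(V, ⊤)) (Ω := Ω) hb i
  let p : Spec (CommRingCat.of B) ⟶ V := Spec.map (CommRingCat.ofHom (algebraMap Γ(V, ⊤) B)) ≫ V.isoSpec.inv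
  haveI : LocallyQuasiFinite (Spec.map (CommRingCat.ofHom (algebraMap Γ(V, ⊤) B))) :=
    (HasRingHomProperty.Spec_iff (P := @LocallyQuasiFinite)).2 (RingHom.quasiFinite_algebraMap.2 hqf)
  haveI : LocallyOfFinitePresentation (Spec.map (CommRingCat.ofHom (algebraMap Γ(V, ⊤) B))) :=
    (HasRingHomProperty.Spec_iff (P := @LocallyOfFinitePresentation)).2 (RingHom.finitePresentation_algebraMap.2 hfp)
  have w : pullback.fst a p ≫ a ≫ V.isoSpec.hom =
      (pullback.snd a p ≫ Spec.map (CommRingCat.ofHom j.toRingHom)) ≫ stageHom (op i) := by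
    rw [← Category.assoc, pullback.condition, Category.assoc, Category.assoc]
    simp only [p, Category.assoc, Iso.inv_hom_id, Category.comp_id]
    rw [← Spec.map_comp]
    exact congrArg (fun z => pullback.snd a _ ≫ Spec.map z) (CommRingCat.hom_ext j.comp_algebraMap.symm)
  refine ⟨_, p, Spec.map (CommRingCat.ofHom φ.toRingHom), pullback.lift _ _ w, inferInstance, inferInstance,
    inferInstance, ?_, pullback.lift_fst _ _ _, fun {A'} u v huv => ?_⟩
  swap
  · rw [Category.assoc, pullback.lift_snd, ← Category.assoc, huv, Category.assoc]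
    show v ≫ Spec.map _ ≫ Spec.map _ = v ≫ Spec.map _
    rw [← Spec.map_comp]
    exact congrArg (fun t => v ≫ Spec.map t) (CommRingCat.hom_ext (congrArg AlgHom.toRingHom hφj))
  rw [← cancel_mono V.isoSpec.hom]
  simp only [p, Category.assoc, Iso.inv_hom_id, Category.comp_id]
  rw [← Spec.map_comp, ← Spec.map_preimage (b ≫ V.isoSpec.hom)]
  exact congrArg Spec.map (CommRingCat.hom_ext φ.comp_algebraMap)

variable {Y : Scheme.{u}} (F : EtCoh.Ab Y) (f : W ⟶ Y)

include hb in
/-- A class on the geometric fibre comes from a quasi-finite stage. -/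
theorem exists_qf_lift (q : ℕ) (ξ : EtCoh.H (pullback a b) (etSys.M F (Over.mk (pullback.fst a b ≫ f))) q) :
    ∃ (Z : Scheme.{u}) (p : Z ⟶ V) (z : Spec (CommRingCat.of Ω) ⟶ Z) (hz : z ≫ p = b)
      (x : EtCoh.H (pullback a p) (etSys.M F (Over.mk (pullback.fst a p ≫ f))) q),
      IsAffine Z ∧ LocallyQuasiFinite p ∧ LocallyOfFinitePresentation p ∧
        etSys.Hmap F q (Over.homMk (pullback.lift (pullback.fst a b) (pullback.snd a b ≫ z)
          (by rw [Category.assoc, hz]; exact pullback.condition))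
          (by simp) : Over.mk (pullback.fst a b ≫ f) ⟶ Over.mk (pullback.fst a p ≫ f)) x = ξ := by
  letI := (Spec.preimage (b ≫ V.isoSpec.hom)).hom.toAlgebra
  let gA := a ≫ V.isoSpec.hom
  have hbA : b ≫ V.isoSpec.hom = Spec.map (CommRingCat.ofHom (algebraMap Γ(V, ⊤) Ω)) :=
    (Spec.map_preimage (b ≫ V.isoSpec.hom)).symm
  haveI : ∀ i, IsAffine ((preD (Ω := Ω) gA).obj i) := fun i => by
    haveI : IsAffine (stageSpec (A := Γ(V, ⊤)) (Ω := Ω) |>.obj i) := inferInstanceAs (IsAffine (Spec _))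
    exact inferInstanceAs (IsAffine (pullback gA (stageHom i)))
  haveI : ∀ i j (m : i ⟶ j), IsAffineHom ((preD (Ω := Ω) gA).map m) := fun i j m => isAffineHom_of_isAffine _
  let tY : preD (Ω := Ω) gA ⟶ (Functor.const _).obj Y :=
    { app := fun i => pullback.fst gA (stageHom i) ≫ f
      naturality := fun i j m => by simp [preD] }
  let κ : pullback gA (Spec.map (CommRingCat.ofHom (algebraMap Γ(V, ⊤) Ω))) ⟶ pullback a b :=
    pullback.lift (pullback.fst _ _) (pullback.snd _ _) (by
      rw [← cancel_mono V.isoSpec.hom, Category.assoc, Category.assoc, hbA]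
      exact pullback.condition)
  let κ' : pullback a b ⟶ pullback gA (Spec.map (CommRingCat.ofHom (algebraMap Γ(V, ⊤) Ω))) :=
    pullback.lift (pullback.fst _ _) (pullback.snd _ _) (by
      rw [← hbA, ← Category.assoc, ← Category.assoc, pullback.condition])
  let f₀ := pullback.fst gA (Spec.map (CommRingCat.ofHom (algebraMap Γ(V, ⊤) Ω))) ≫ f
  have hw : ∀ j, (preCone (Ω := Ω) gA).π.app j ≫ tY.app j = f₀ := fun j => by
    simp [preCone, tY, f₀]
  let K : Over.mk f₀ ⟶ Over.mk (pullback.fst a b ≫ f) := Over.homMk κ (by simp [κ, f₀])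
  let K' : Over.mk (pullback.fst a b ≫ f) ⟶ Over.mk f₀ := Over.homMk κ' (by simp [κ', f₀])
  have hK : K' ≫ K = 𝟙 _ := Over.OverMorphism.ext (by
    show κ' ≫ κ = 𝟙 _
    apply pullback.hom_ext <;> simp [κ, κ'])
  obtain ⟨i, x, hx⟩ := EtStrictAcycLib.exists_Hmap_stgPt F tY (preCone gA) (preLimit gA) f₀ hw q
    (etSys.Hmap F q K ξ)
  obtain ⟨Z, p, z, r, hZ, hp, hp', hz, hr, hr'⟩ := exists_qf_stage a b hb i.unop
  let P' : Over.mk (pullback.fst a b ≫ f) ⟶ Over.mk (pullback.fst a p ≫ f) :=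
    Over.homMk (pullback.lift (pullback.fst a b) (pullback.snd a b ≫ z)
      (by rw [Category.assoc, hz]; exact pullback.condition)) (by simp)
  let Rm : Over.mk (pullback.fst a p ≫ f) ⟶ EtContLib.stg tY i := Over.homMk r (by
    show r ≫ pullback.fst _ _ ≫ f = _
    rw [← Category.assoc, hr]
    rfl)
  refine ⟨Z, p, z, hz, etSys.Hmap F q Rm x, hZ, hp, hp', ?_⟩
  refine (etSys.Hmap_comp F q P' Rm x).symm.trans ?_
  have e : P' ≫ Rm = K' ≫ EtContLib.stgPt tY (preCone gA) f₀ hw i := Over.OverMorphism.ext (by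
    show P'.left ≫ r = κ' ≫ (preCone gA).π.app i
    apply pullback.hom_ext
    · rw [Category.assoc, hr]
      simp [P', κ', preCone, gA]
    · refine (hr' P'.left (pullback.snd a b) (by simp [P'])).trans ?_
      simp [κ', preCone, gA])
  rw [e, PullSys.Hmap_comp, hx, ← PullSys.Hmap_comp, hK]
  exact PullSys.Hmap_id etSys F q (Over.mk (pullback.fst a b ≫ f)) ξ

include hb in
/-- The geometric fibre is nonempty when all quasi-finite stages are. -/
theorem nonempty_of_qf_stages (h : ∀ (Z : Scheme.{u}) (p : Z ⟶ V) (z : Spec (CommRingCat.of Ω) ⟶ Z),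
    z ≫ p = b → IsAffine Z → LocallyQuasiFinite p → LocallyOfFinitePresentation p → Nonempty ↥(pullback a p)) :
    Nonempty ↥(pullback a b) := by
  letI := (Spec.preimage (b ≫ V.isoSpec.hom)).hom.toAlgebra
  let gA := a ≫ V.isoSpec.hom
  haveI : ∀ i, IsAffine ((preD (Ω := Ω) gA).obj i) := fun i => by
    haveI : IsAffine (stageSpec (A := Γ(V, ⊤)) (Ω := Ω) |>.obj i) := inferInstanceAs (IsAffine (Spec _))
    exact inferInstanceAs (IsAffine (pullback gA (stageHom i)))
  haveI : ∀ i j (m : i ⟶ j), IsAffineHom ((preD (Ω := Ω) gA).map m) := fun i j m => isAffineHom_of_isAffine _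
  haveI : ∀ i, Nonempty ↥((preD (Ω := Ω) gA).obj i) := fun i => by
    obtain ⟨Z, p, z, r, hZ, hp, hp', hz, -, -⟩ := exists_qf_stage a b hb i.unop
    obtain ⟨w⟩ := h Z p z hz hZ hp hp'
    exact ⟨r.base w⟩
  obtain ⟨w⟩ : Nonempty ↥(preCone (Ω := Ω) gA).pt := Scheme.nonempty_of_isLimit _ _ (preLimit gA)
  let κ : pullback gA (Spec.map (CommRingCat.ofHom (algebraMap Γ(V, ⊤) Ω))) ⟶ pullback a b :=
    pullback.lift (pullback.fst _ _) (pullback.snd _ _) (by
      rw [← cancel_mono V.isoSpec.hom, Category.assoc, Category.assoc, Spec.map_preimage (b ≫ V.isoSpec.hom) |>.symm]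
      exact pullback.condition)
  exact ⟨κ.base w⟩

end Qf

end EtBcBridgeLib
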