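import Groth.Agent.EtBcBridgeLib.Gen
import Groth.Agent.EtBcQLib.Tower

/-!
# Base change morphisms of derived categories along a tower of squares
-/

set_option autoImplicit false
set_option linter.all false
set_option backward.isDefEq.respectTransparency false
set_option backward.isDefEq.respectTransparency.types false
set_option synthInstance.maxHeartbeats 400000
set_option maxHeartbeats 2000000

universe u

open CategoryTheory CategoryTheory.Limits AlgebraicGeometry Opposite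

attribute [local instance] HasDerivedCategory.standard

noncomputable section

namespace EtBcBridgeLib

open EtBcDLib EtBcQLib

attribute [local instance] EtSliceLib.pullExact pfl_push pfc_pull

variable {X S Y T W Z : Scheme.{u}} (f : X ⟶ S) (g : T ⟶ S) (h : Y ⟶ X) (e : Y ⟶ T) (c : IsPullback e h g f)
  (i : W ⟶ X) (j : Z ⟶ W) (k : Z ⟶ Y) (c' : IsPullback k j h i)
  (c'' : IsPullback (k ≫ e) j g (i ≫ f))

include c c' c'' in
/-- Degree zero base change on complexes is compatible with the tower. -/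
theorem kappa_tower (I : CochainComplex (EtCoh.Ab T) ℤ) :
    (NatTrans.mapHomologicalComplex (cVia i f (i ≫ f) rfl) (ComplexShape.up ℤ)).app
        (((EtCoh.push g).mapHomologicalComplex _).obj I) ≫ kappa g (i ≫ f) j (k ≫ e) c''.w I =
      ((EtCoh.pull i).mapHomologicalComplex _).map (kappa g f h e c.w I) ≫
        kappa h i j k c'.w (((EtCoh.pull e).mapHomologicalComplex _).obj I) ≫
          ((EtCoh.push j).mapHomologicalComplex _).map
            ((NatTrans.mapHomologicalComplex (cVia k e (k ≫ e) rfl) (ComplexShape.up ℤ)).app I) := by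
  refine HomologicalComplex.hom_ext _ _ fun n => ?_
  exact bc0_tower f g h e c i j k c' (i ≫ f) rfl (k ≫ e) rfl c'' (I.X n)

variable [DCoh.HasRpushEt T g] [DCoh.HasRpushEt Y h] [DCoh.HasRpushEt Z j] [DCoh.HasRpushEt X f]
  [DCoh.HasRpushEt W i] [DCoh.HasRpushEt W (i ≫ f)]

/-- If the upper base change morphism is invertible, the outer one is invertible with the image of the lower one. -/
theorem isIso_outer_iff (adj₁ : EtBC.pullD f ⊣ DCoh.RpushEt X f) (adj₂ : EtBC.pullD i ⊣ DCoh.RpushEt W i)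
    (adj₃ : EtBC.pullD (i ≫ f) ⊣ DCoh.RpushEt W (i ≫ f)) (K : DCoh.DEt T)
    (h2 : IsIso (EtBC.bcMap h i j k c'.w adj₂ ((EtBC.pullD e).obj K))) :
    IsIso (EtBC.bcMap g (i ≫ f) j (k ≫ e) c''.w adj₃ K) ↔
      IsIso ((EtBC.pullD i).map (EtBC.bcMap g f h e c.w adj₁ K)) := by
  obtain ⟨I, hI, ⟨a⟩⟩ := exists_kInjective K
  haveI := hI
  rw [← isIso_bcMap_congr g (i ≫ f) j (k ≫ e) c''.w adj₃ a, isIso_bcMap_iff]
  have hlow : IsIso ((EtBC.pullD i).map (EtBC.bcMap g f h e c.w adj₁ K)) ↔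
      IsIso ((EtBC.pullD i).map (midMap g f h e c.w I)) := by
    obtain ⟨m⟩ := nonempty_bcMap_midMap g f h e c.w I
    have hz : Arrow.mk (EtBC.bcMap g f h e c.w adj₁ K) ≅ Arrow.mk (EtBC.bcMap g f h e c.w (canAdj f) K) :=
      Arrow.isoMk (exists_symm_eq adj₁ (canAdj f) ((DCoh.RpushEt T g).obj K)).choose (Iso.refl _)
        (((exists_symm_eq adj₁ (canAdj f) ((DCoh.RpushEt T g).obj K)).choose_spec
          ((EtBC.bcAdj g f h e c.w).app K)).symm.trans (Category.comp_id _).symm)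
    have hk : Arrow.mk (EtBC.bcMap g f h e c.w (canAdj f) K) ≅ Arrow.mk (EtBC.bcMap g f h e c.w (canAdj f) (qh I)) :=
      (Arrow.isoMk ((EtBC.pullD f).mapIso ((DCoh.RpushEt T g).mapIso a))
        ((DCoh.RpushEt Y h).mapIso ((EtBC.pullD e).mapIso a)) (bcMap_natural g f h e c.w (canAdj f) a.hom)).symm
    obtain ⟨q⟩ := nonempty_arrow_map (EtBC.pullD i) (hz ≪≫ hk ≪≫ m)
    exact (MorphismProperty.isomorphisms _).arrow_mk_iso_iff q
  rw [hlow]
  let qI := (HomotopyCategory.quotient (EtCoh.Ab T) (ComplexShape.up ℤ)).obj I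
  let J := ((EtCoh.pull e).mapHomologicalComplex (ComplexShape.up ℤ)).obj I
  let qJ := (HomotopyCategory.quotient (EtCoh.Ab Y) (ComplexShape.up ℤ)).obj J
  haveI hb : IsIso (EtBC.bcMap h i j k c'.w (canAdj i) (qh J)) :=
    (isIso_bcMap_congr h i j k c'.w (canAdj i)
      (((EtBC.pullD e).mapIso a.symm) ≪≫ (EtCoh.pull e).mapDerivedCategoryFactorsh.app qI)).1
        ((isIso_bcMap_adj h i j k c'.w adj₂ (canAdj i) _).1 h2)
  let K1 := DerivedCategory.Qh.map ((HomotopyCategory.quotient (EtCoh.Ab X) (ComplexShape.up ℤ)).map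
    (kappa g f h e c.w I))
  let u2 := (uR h).app qJ
  let fac := (DCoh.RpushEt Z j).map ((EtCoh.pull k).mapDerivedCategoryFactorsh.inv.app qJ)
  let al := (EtCoh.pull i).mapDerivedCategoryFactorsh.hom
  let P1 := DerivedCategory.Qh.map ((HomotopyCategory.quotient (EtCoh.Ab W) (ComplexShape.up ℤ)).map
    (((EtCoh.pull i).mapHomologicalComplex _).map (kappa g f h e c.w I)))
  have he : (EtBC.pullD i).map (K1 ≫ u2) ≫ EtBC.bcMap h i j k c'.w (canAdj i) (qh J) =
      al.app ((HomotopyCategory.quotient (EtCoh.Ab X) (ComplexShape.up ℤ)).obj _) ≫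
        (P1 ≫ midMap h i j k c'.w J) ≫ fac := by
    rw [Functor.map_comp, Category.assoc]
    erw [unit_bcMap h i j k c'.w J]
    refine ((reassoc_of% (al.naturality ((HomotopyCategory.quotient (EtCoh.Ab X) (ComplexShape.up ℤ)).map
      (kappa g f h e c.w I)))) _).trans ?_
    exact congrArg (al.app _ ≫ ·) (Category.assoc _ _ _).symm
  have h4 : IsIso (P1 ≫ midMap h i j k c'.w J) ↔ IsIso ((EtBC.pullD i).map (midMap g f h e c.w I)) := by
    show _ ↔ IsIso ((EtBC.pullD i).map (K1 ≫ u2))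
    rw [← isIso_comp_right_iff ((EtBC.pullD i).map (K1 ≫ u2)) (EtBC.bcMap h i j k c'.w (canAdj i) (qh J)), he]
    exact (isIso_comp_right_iff _ fac).symm.trans (isIso_comp_left_iff (al.app _) _).symm
  rw [← h4]
  let cA := (NatTrans.mapHomologicalComplex (cVia i f (i ≫ f) rfl) (ComplexShape.up ℤ)).app
    (((EtCoh.push g).mapHomologicalComplex _).obj I)
  let cB := (NatTrans.mapHomologicalComplex (cVia k e (k ≫ e) rfl) (ComplexShape.up ℤ)).app I
  haveI : IsIso cA := ((NatIso.mapHomologicalComplex ((EtCore.pullComp i f).symm ≪≫ EtCore.pullCongr rfl)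
    (ComplexShape.up ℤ)).app _).isIso_hom
  haveI : IsIso cB := ((NatIso.mapHomologicalComplex ((EtCore.pullComp k e).symm ≪≫ EtCore.pullCongr rfl)
    (ComplexShape.up ℤ)).app _).isIso_hom
  let qC := DerivedCategory.Qh.map ((HomotopyCategory.quotient (EtCoh.Ab W) (ComplexShape.up ℤ)).map cA)
  let qB := (HomotopyCategory.quotient (EtCoh.Ab Z) (ComplexShape.up ℤ)).map cB
  have h5 : qC ≫ midMap g (i ≫ f) j (k ≫ e) c''.w I =
      (P1 ≫ midMap h i j k c'.w J) ≫ (DCoh.RpushEt Z j).map (DerivedCategory.Qh.map qB) := by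
    dsimp only [qC, P1, midMap]
    rw [← Functor.map_comp_assoc, ← Functor.map_comp, kappa_tower f g h e c i j k c' c'' I]
    simp only [Functor.map_comp, Category.assoc]
    refine congrArg (_ ≫ ·) (congrArg (_ ≫ ·) ?_)
    exact ((uR j).naturality qB)
  rw [← isIso_comp_left_iff qC (midMap g (i ≫ f) j (k ≫ e) c''.w I), h5]
  exact isIso_comp_right_iff _ _

include c c' in
/-- Base change morphisms along a tower, with the composites named. -/
theorem isIso_outer_iff' (f' : W ⟶ S) (wf : i ≫ f = f') (e' : Z ⟶ T) (we : k ≫ e = e')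
    (cO : IsPullback e' j g f') [DCoh.HasRpushEt W f']
    (adj₁ : EtBC.pullD f ⊣ DCoh.RpushEt X f) (adj₂ : EtBC.pullD i ⊣ DCoh.RpushEt W i)
    (adj₃ : EtBC.pullD f' ⊣ DCoh.RpushEt W f') (K : DCoh.DEt T)
    (h2 : IsIso (EtBC.bcMap h i j k c'.w adj₂ ((EtBC.pullD e).obj K))) :
    IsIso (EtBC.bcMap g f' j e' cO.w adj₃ K) ↔
      IsIso ((EtBC.pullD i).map (EtBC.bcMap g f h e c.w adj₁ K)) := by
  subst wf we
  exact isIso_outer_iff f g h e c i j k c' cO adj₁ adj₂ adj₃ K h2

/-- Base change morphisms compose. -/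
theorem isIso_bcMap_vcomp (adj₁ : EtBC.pullD f ⊣ DCoh.RpushEt X f) (adj₂ : EtBC.pullD i ⊣ DCoh.RpushEt W i)
    (adj₃ : EtBC.pullD (i ≫ f) ⊣ DCoh.RpushEt W (i ≫ f)) (K : DCoh.DEt T)
    (h1 : IsIso (EtBC.bcMap g f h e c.w adj₁ K))
    (h2 : IsIso (EtBC.bcMap h i j k c'.w adj₂ ((EtBC.pullD e).obj K))) :
    IsIso (EtBC.bcMap g (i ≫ f) j (k ≫ e) c''.w adj₃ K) :=
  haveI := h1
  (isIso_outer_iff f g h e c i j k c' c'' adj₁ adj₂ adj₃ K h2).2 inferInstance

end EtBcBridgeLib
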